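import Cfsg.Agent.TransGroups.Split

/-!
# Groups generated by transvections over a prime field of odd order

Such a group without normal p-subgroup is the direct product of special linear and symplectic groups
acting on independent subspaces.
-/

set_option autoImplicit false
set_option linter.unusedSectionVars false

open Module Relation

namespace Cfsg.Agent.TransGroups

variable {p : ℕ} [Fact p.Prime] {V : Type*} [AddCommGroup V] [Module (ZMod p) V] [Finite V]
  {H : Subgroup (V ≃ₗ[ZMod p] V)}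

theorem trans_pow {t : V ≃ₗ[ZMod p] V} {v : V} {φ : Dual (ZMod p) V} (hv : φ v = 0)
    (htx : ∀ x, t x = x + φ x • v) (n : ℕ) (x : V) :
    (t ^ n) x = x + (n : ZMod p) • (φ x • v) := by
  induction n with
  | zero => simp
  | succ n ih =>
    rw [pow_succ', LinearEquiv.mul_apply, ih, htx, map_add, map_smul, map_smul, hv, smul_zero,
      smul_zero, add_zero, Nat.cast_succ, add_smul (n : ZMod p), one_smul]
    abel

/-- An element of order p fixing a hyperplane is a transvection. -/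
theorem exists_trans {t : V ≃ₗ[ZMod p] V} (ht : orderOf t = p)
    (hk : finrank (ZMod p) ↥(LinearMap.ker ((t : V →ₗ[ZMod p] V) - LinearMap.id)) + 1 =
      finrank (ZMod p) V) :
    ∃ (v : V) (φ : Dual (ZMod p) V), v ≠ 0 ∧ φ ≠ 0 ∧ φ v = 0 ∧ ∀ x, t x = x + φ x • v := by
  set d := (t : V →ₗ[ZMod p] V) - LinearMap.id with hd
  have h1 : finrank (ZMod p) (LinearMap.range d) = 1 := by
    have := d.finrank_range_add_finrank_ker
    omega
  obtain ⟨⟨v, hv⟩, hv0, hspan⟩ := finrank_eq_one_iff'.mp h1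
  have hv0' : v ≠ 0 := fun h => hv0 (Subtype.ext h)
  obtain ⟨l, hl⟩ := Projective.exists_dual_eq_one (ZMod p) hv0'
  refine ⟨v, l ∘ₗ d, hv0', ?_, ?_, ?_⟩
  all_goals
    have htx : ∀ x, t x = x + (l ∘ₗ d) x • v := by
      intro x
      obtain ⟨c, hc⟩ := hspan ⟨d x, x, rfl⟩
      have hc' : c • v = d x := congrArg Subtype.val hc
      rw [LinearMap.comp_apply, ← hc', map_smul, hl, smul_eq_mul, mul_one, hc', hd,
        LinearMap.sub_apply]
      simp
  · intro h
    have : t = 1 := LinearEquiv.ext fun x => by rw [htx, h]; simp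
    rw [this, orderOf_one] at ht
    exact (Fact.out : p.Prime).ne_one ht.symm
  · by_contra hne
    set a := (l ∘ₗ d) v
    have hp : ∀ n : ℕ, (t ^ n) v = ((1 + a) ^ n) • v := by
      intro n
      induction n with
      | zero => simp
      | succ n ih =>
        rw [pow_succ', LinearEquiv.mul_apply, ih, map_smul, htx, smul_add, smul_smul, pow_succ,
          mul_add, mul_one, add_smul]
    have hpv := hp p
    have hp1 : t ^ p = 1 := by
      have := pow_orderOf_eq_one t
      rwa [ht] at this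
    rw [hp1, ZMod.pow_card, add_smul, one_smul] at hpv
    replace hpv : v = v + a • v := hpv
    rw [left_eq_add] at hpv
    exact hne ((smul_eq_zero.mp hpv).resolve_right hv0')
  · exact htx

/-- A block of pairs: a union of classes in which all pairs are joined. -/
structure Block (H : Subgroup (V ≃ₗ[ZMod p] V)) (Γ : Set (V × Dual (ZMod p) V)) : Prop where
  sub : Γ ⊆ Root H
  closed : ∀ q ∈ Γ, ∀ r ∈ Root H, ReflTransGen (Link H) q r → r ∈ Γ
  joined : ∀ q ∈ Γ, ∀ r ∈ Γ, ReflTransGen (Link H) q r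

/-- The group of a block. -/
def blockGroup (Γ : Set (V × Dual (ZMod p) V)) : Subgroup (V ≃ₗ[ZMod p] V) :=
  Subgroup.closure {g | ∃ q ∈ Γ, ∀ x, g x = x + q.2 x • q.1}

section block

variable (hH : NoPCore p H) (hgen : H ≤ Subgroup.closure (TSet H))
  {Γ : Set (V × Dual (ZMod p) V)} (hΓ : Block H Γ)
include hH hgen hΓ

theorem block_perp {q r : V × Dual (ZMod p) V} (hq : q ∈ Γ) (hr : r ∈ Root H) (hr' : r ∉ Γ) :
    q.2 r.1 = 0 ∧ r.2 q.1 = 0 := by
  refine ⟨?_, ?_⟩ <;> by_contra h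
  · exact hr' (hΓ.closed q hq r hr (reach_of_ne_zero hH (hΓ.sub hq) hr h))
  · exact hr' (hΓ.closed q hq r hr (reach_symm (reach_of_ne_zero hH hr (hΓ.sub hq) h)))

theorem blockGroup_le : blockGroup Γ ≤ H :=
  (Subgroup.closure_le _).mpr fun _ ⟨_, hq, hg⟩ => (hΓ.sub hq).2.2.mem_of_eq hg

theorem block_commute {a : V ≃ₗ[ZMod p] V} {r : V × Dual (ZMod p) V} (hr : r ∈ Root H)
    (hr' : r ∉ Γ) (ha : ∀ x, a x = x + r.2 x • r.1) {b : V ≃ₗ[ZMod p] V} (hb : b ∈ blockGroup Γ) :
    b * a = a * b := by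
  induction hb using Subgroup.closure_induction with
  | mem g hg =>
    obtain ⟨q, hq, hgx⟩ := hg
    obtain ⟨h1, h2⟩ := block_perp hH hgen hΓ hq hr hr'
    refine LinearEquiv.ext fun x => ?_
    rw [LinearEquiv.mul_apply, LinearEquiv.mul_apply, ha, hgx, hgx x, ha (x + _), map_add, map_add,
      map_smul, map_smul, h1, h2, smul_zero, smul_zero, add_zero, add_zero]
    abel
  | one => rw [one_mul, mul_one]
  | mul x y _ _ hx hy => exact (Commute.mul_left hx hy).eq
  | inv x _ hx => exact (Commute.inv_left hx).eq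

theorem blockGroup_normal {h n : V ≃ₗ[ZMod p] V} (hh : h ∈ H) (hn : n ∈ blockGroup Γ) :
    h * n * h⁻¹ ∈ blockGroup Γ := by
  suffices key : h ∈ Subgroup.normalizer (blockGroup Γ : Set (V ≃ₗ[ZMod p] V)) from
    (Subgroup.mem_normalizer_iff.mp key n).mp hn
  refine (Subgroup.closure_le _).mpr ?_ (hgen hh)
  rintro g ⟨r, hr, hgx⟩
  by_cases hr' : r ∈ Γ
  · exact Subgroup.le_normalizer (Subgroup.subset_closure ⟨r, hr', hgx⟩)
  · rw [SetLike.mem_coe, Subgroup.mem_normalizer_iff]
    intro m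
    constructor
    · intro hm
      rwa [show g * m * g⁻¹ = m by rw [← block_commute hH hgen hΓ hr hr' hgx hm, mul_inv_cancel_right]]
    · intro hm
      have he := block_commute hH hgen hΓ hr hr' hgx hm
      have : g * m * g⁻¹ = m := by
        have h2 : g⁻¹ * (g * m * g⁻¹) * g = g * m * g⁻¹ := by
          rw [mul_assoc, he, ← mul_assoc, inv_mul_cancel, one_mul]
        rw [← h2]
        group
      rwa [← this]

theorem blockGroup_core : NoPCore p (blockGroup Γ) := by
  intro N hN hn hp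
  refine hH N (hN.trans (blockGroup_le hH hgen hΓ)) (fun h hh => ?_) hp
  suffices key : h ∈ Subgroup.normalizer (N : Set (V ≃ₗ[ZMod p] V)) from fun n hn' =>
    (Subgroup.mem_normalizer_iff.mp key n).mp hn'
  refine (Subgroup.closure_le _).mpr ?_ (hgen hh)
  rintro g ⟨r, hr, hgx⟩
  by_cases hr' : r ∈ Γ
  · have hg : g ∈ blockGroup Γ := Subgroup.subset_closure ⟨r, hr', hgx⟩
    rw [SetLike.mem_coe, Subgroup.mem_normalizer_iff]
    intro m
    refine ⟨hn g hg m, fun hm => ?_⟩
    have := hn g⁻¹ (inv_mem hg) _ hm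
    rwa [show g⁻¹ * (g * m * g⁻¹) * g⁻¹⁻¹ = m by group] at this
  · have hc : ∀ m ∈ blockGroup Γ, g * m * g⁻¹ = m := fun m hm => by
      rw [← block_commute hH hgen hΓ hr hr' hgx hm, mul_inv_cancel_right]
    rw [SetLike.mem_coe, Subgroup.mem_normalizer_iff]
    intro m
    refine ⟨fun hm => by rwa [hc m (hN hm)], fun hm => ?_⟩
    have he := block_commute hH hgen hΓ hr hr' hgx (hN hm)
    rwa [← show g * m * g⁻¹ = m by
      have h2 : g⁻¹ * (g * m * g⁻¹) * g = g * m * g⁻¹ := by
        rw [mul_assoc, he, ← mul_assoc, inv_mul_cancel, one_mul]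
      rw [← h2]
      group]

theorem root_blockGroup : Root (blockGroup Γ) = Γ := by
  ext r
  refine ⟨fun hr => ?_, fun hr => ⟨(hΓ.sub hr).1, (hΓ.sub hr).2.1, (hΓ.sub hr).2.2.1, ?_⟩⟩
  · by_contra hr'
    obtain ⟨h1, h2, hv, g, hg, hgx⟩ := hr
    have hrH : r ∈ Root H := ⟨h1, h2, hv, g, blockGroup_le hH hgen hΓ hg, hgx⟩
    have hN : Subgroup.zpowers g = ⊥ := by
      refine blockGroup_core hH hgen hΓ _ (Subgroup.zpowers_le.mpr hg) ?_ ?_
      · intro h hh n hn
        obtain ⟨i, rfl⟩ := Subgroup.mem_zpowers_iff.mp hn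
        have : Commute h (g ^ i) :=
          (show Commute h g from block_commute hH hgen hΓ hrH hr' hgx hh).zpow_right i
        rw [this.eq, mul_inv_cancel_right]
        exact ⟨i, rfl⟩
      · have hgp : g ^ p = 1 := LinearEquiv.ext fun x => by
          rw [trans_pow hv hgx, ZMod.natCast_self, zero_smul, add_zero]
          rfl
        rintro ⟨n, hn⟩
        obtain ⟨i, rfl⟩ := Subgroup.mem_zpowers_iff.mp hn
        refine ⟨1, Subtype.ext ?_⟩
        show (g ^ i) ^ (p ^ 1) = 1
        rw [pow_one, ← zpow_natCast, ← zpow_mul, mul_comm, zpow_mul, zpow_natCast, hgp, one_zpow]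
    have hg1 : g = 1 := Subgroup.mem_bot.mp (hN ▸ Subgroup.mem_zpowers g)
    refine h2 (LinearMap.ext fun x => ?_)
    have h0 := hgx x
    rw [hg1] at h0
    replace h0 : x = x + r.2 x • r.1 := h0
    rw [left_eq_add] at h0
    exact (smul_eq_zero.mp h0).resolve_right h1
  · obtain ⟨-, g, -, hgx⟩ := (hΓ.sub hr).2.2
    exact ⟨g, Subgroup.subset_closure ⟨r, hr, hgx⟩, hgx⟩

theorem blockGroup_comp (h2 : (2 : ZMod p) ≠ 0) : Comp (blockGroup Γ) where
  two := h2
  core := blockGroup_core hH hgen hΓ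
  gen := Subgroup.closure_mono fun g ⟨q, hq, hg⟩ => ⟨q, (root_blockGroup hH hgen hΓ).symm ▸ hq, hg⟩
  joined := by
    rw [root_blockGroup hH hgen hΓ]
    intro q hq r hr
    suffices key : ∀ r, ReflTransGen (Link H) q r →
        r ∈ Γ ∧ ReflTransGen (Link (blockGroup Γ)) q r from (key r (hΓ.joined q hq r hr)).2
    intro r h
    induction h with
    | refl => exact ⟨hq, .refl⟩
    | @tail a b _ hl ih =>
      have hb : b ∈ Γ := hΓ.closed a ih.1 b hl.2.1 (.single hl)
      exact ⟨hb, ih.2.tail ⟨(root_blockGroup hH hgen hΓ).symm ▸ ih.1,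
        (root_blockGroup hH hgen hΓ).symm ▸ hb, hl.2.2⟩⟩

end block

/-- A transvection group without normal p-subgroup decomposes into classical groups. -/
theorem decomposition (h2 : (2 : ZMod p) ≠ 0) (hH : NoPCore p H)
    (hgen : H ≤ Subgroup.closure (TSet H)) :
    ∃ (n : ℕ) (W : Fin (n + 1) → Submodule (ZMod p) V) (K : Fin n → Subgroup (V ≃ₗ[ZMod p] V)),
      1 ≤ n ∧ DirectSum.IsInternal W ∧
      (∀ h ∈ H, ∀ i, (W i).map (h : V →ₗ[ZMod p] V) = W i) ∧
      (∀ j, K j ≤ H ∧ ((K j).subgroupOf H).Normal) ∧ ⨆ j, K j = H ∧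
      (∀ j, K j ⊓ (⨆ j' ∈ {j' : Fin n | j' ≠ j}, K j') = ⊥) ∧
      (∀ j j', j ≠ j' → ∀ a ∈ K j, ∀ b ∈ K j', a * b = b * a) ∧
      (∀ j, ∀ h ∈ K j, ∀ i : Fin (n + 1), i ≠ j.succ → ∀ v ∈ W i, h v = v) ∧
      (∀ j, ∃ ρ : ↥(K j) →* (↥(W j.succ) ≃ₗ[ZMod p] ↥(W j.succ)),
        (∀ (h : ↥(K j)) (v : ↥(W j.succ)), ((ρ h v : ↥(W j.succ)) : V) = (h : V ≃ₗ[ZMod p] V) (v : V)) ∧
        ((ρ.range : Set (↥(W j.succ) ≃ₗ[ZMod p] ↥(W j.succ))) =
            {f : ↥(W j.succ) ≃ₗ[ZMod p] ↥(W j.succ) | LinearMap.det (f : ↥(W j.succ) →ₗ[ZMod p] ↥(W j.succ)) = 1} ∨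
          ∃ B : LinearMap.BilinForm (ZMod p) ↥(W j.succ), B.IsAlt ∧ B.Nondegenerate ∧
            (ρ.range : Set (↥(W j.succ) ≃ₗ[ZMod p] ↥(W j.succ))) = {f : ↥(W j.succ) ≃ₗ[ZMod p] ↥(W j.succ) | ∀ x y, B (f x) (f y) = B x y})) := by
  classical
  have : Finite (Dual (ZMod p) V) := Finite.of_injective _ DFunLike.coe_injective
  let S : Setoid (Root H) :=
    { r := fun a b => ReflTransGen (Link H) a.1 b.1
      iseqv := ⟨fun _ => .refl, reach_symm, ReflTransGen.trans⟩ }
  let n := Nat.card (Option (Quotient S))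
  let e : Fin n ≃ Option (Quotient S) := (Finite.equivFin _).symm
  let Γ : Fin n → Set (V × Dual (ZMod p) V) := fun j =>
    {q | ∃ hq : q ∈ Root H, some ⟦⟨q, hq⟩⟧ = e j}
  have hΓ : ∀ j, Block H (Γ j) := by
    intro j
    refine ⟨fun q hq => hq.1, ?_, ?_⟩
    · rintro q ⟨hq, hqe⟩ r hr hqr
      refine ⟨hr, ?_⟩
      rw [← hqe]
      exact congrArg some (Quotient.sound (reach_symm hqr))
    · rintro q ⟨hq, hqe⟩ r ⟨hr, hre⟩
      exact Quotient.exact (Option.some_injective _ (hqe.trans hre.symm))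
  have hdisj : ∀ {j j'}, j ≠ j' → ∀ q ∈ Γ j, q ∉ Γ j' := fun hne q ⟨_, h⟩ ⟨_, h'⟩ =>
    hne (e.injective (h.symm.trans h'))
  have hcover : ∀ q ∈ Root H, ∃ j, q ∈ Γ j :=
    fun q hq => ⟨e.symm (some ⟦⟨q, hq⟩⟧), hq, (e.apply_symm_apply _).symm⟩
  let K : Fin n → Subgroup (V ≃ₗ[ZMod p] V) := fun j => blockGroup (Γ j)
  have hC : ∀ j, Comp (K j) := fun j => blockGroup_comp hH hgen (hΓ j) h2
  have hroot : ∀ j, Root (K j) = Γ j := fun j => root_blockGroup hH hgen (hΓ j)
  let U : Fin n → Submodule (ZMod p) V := fun j => centSpan (K j)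
  let W0 : Submodule (ZMod p) V := comKer H
  let W : Fin (n + 1) → Submodule (ZMod p) V := Fin.cases W0 U
  have hW0 : ∀ j, W0 ≤ comKer (K j) := fun j x hx => mem_comKer.mpr fun q hq =>
    mem_comKer.mp hx q ((hΓ j).sub (hroot j ▸ hq))
  have hUker : ∀ {i j}, i ≠ j → U i ≤ comKer (K j) := by
    intro i j hne
    refine Submodule.span_le.mpr ?_
    rintro v ⟨φ, hq⟩
    rw [hroot i] at hq
    rw [SetLike.mem_coe, mem_comKer]
    intro r hr
    rw [hroot j] at hr
    exact (block_perp hH hgen (hΓ j) hr ((hΓ i).sub hq) (hdisj hne _ hq)).1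
  have hfixed : ∀ j, ∀ h ∈ K j, ∀ i : Fin (n + 1), i ≠ j.succ → ∀ v ∈ W i, h v = v := by
    intro j h hh i
    refine Fin.cases (fun _ v hv => (hC j).fix_comKer hh (hW0 j hv)) (fun i hne v hv => ?_) i
    exact (hC j).fix_comKer hh (hUker (fun h' => hne (congrArg Fin.succ h')) hv)
  have hsup : ⨆ j, K j = H := by
    refine le_antisymm (iSup_le fun j => blockGroup_le hH hgen (hΓ j)) (hgen.trans ?_)
    refine (Subgroup.closure_le _).mpr ?_
    rintro g ⟨q, hq, hgx⟩
    obtain ⟨j, hj⟩ := hcover q hq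
    exact Subgroup.mem_iSup_of_mem (S := K) j (Subgroup.subset_closure ⟨q, hj, hgx⟩)
  have hinv : ∀ h ∈ H, ∀ i, ∀ v ∈ W i, h v ∈ W i := by
    intro h hh i v hv
    rw [← hsup] at hh
    refine Subgroup.iSup_induction (C := fun g : V ≃ₗ[ZMod p] V => ∀ v ∈ W i, g v ∈ W i) K hh
      (fun j g hg v hv => ?_) (fun v hv => hv)
      (fun a b ha hb v hv => by rw [LinearEquiv.mul_apply]; exact ha _ (hb _ hv)) v hv
    by_cases hi : i = j.succ
    · subst hi
      exact (hC j).maps_centSpan hg hv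
    · rw [hfixed j g hg i hi v hv]; exact hv
  let P : Fin n → V →ₗ[ZMod p] V := fun j => (U j).projection (comKer (K j)) (hC j).isCompl
  have hPother : ∀ {i j}, i ≠ j → ∀ x ∈ U i, P j x = 0 := fun hne x hx =>
    (Submodule.projection_apply_eq_zero_iff _).mpr (hUker hne hx)
  have hPself : ∀ j, ∀ x ∈ U j, P j x = x := fun j x hx =>
    Submodule.projection_apply_of_mem_left _ hx
  have hsum : ∀ x ∈ ⨆ j, U j, ∑ j, P j x = x := by
    intro x hx
    induction hx using Submodule.iSup_induction' with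
    | mem i x hx =>
      rw [Finset.sum_eq_single i (fun j _ hne => hPother (Ne.symm hne) x hx)
        (fun h => absurd (Finset.mem_univ i) h), hPself i x hx]
    | zero => simp
    | add a b _ _ ha hb => simp [Finset.sum_add_distrib, ha, hb]
  have hint : DirectSum.IsInternal W := by
    rw [DirectSum.isInternal_submodule_iff_iSupIndep_and_iSup_eq_top]
    refine ⟨fun i => disjoint_iff.mpr ?_, eq_top_iff.mpr fun x _ => ?_⟩
    · refine Fin.cases ?_ (fun j => ?_) i
      · rw [eq_bot_iff]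
        rintro x ⟨hx0, hx⟩
        have hx' : x ∈ ⨆ j, U j := by
          refine (iSup₂_le fun i hi => ?_ : _ ≤ ⨆ j, U j) hx
          revert hi
          refine Fin.cases (fun h => absurd rfl h) (fun j _ => le_iSup U j) i
        rw [Submodule.mem_bot, ← hsum x hx']
        exact Finset.sum_eq_zero fun j _ =>
          (Submodule.projection_apply_eq_zero_iff _).mpr (hW0 j hx0)
      · rw [eq_bot_iff, ← (hC j).inf_eq_bot]
        refine inf_le_inf_left _ (iSup₂_le fun i hi => ?_)
        revert hi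
        refine Fin.cases (fun _ => hW0 j) (fun i hne => hUker fun h' => hne (congrArg Fin.succ h')) i
    · have hd : x - ∑ j, P j x ∈ W0 := by
        refine mem_comKer.mpr fun q hq => ?_
        obtain ⟨j, hj⟩ := hcover q hq
        have hker : ∀ i, i ≠ j → q.2 (P i x) = 0 := fun i hne =>
          mem_comKer.mp (hUker hne (Submodule.projection_apply_mem _ x)) q ((hroot j).symm ▸ hj)
        have hdiff : x - P j x ∈ comKer (K j) := by
          rw [← Submodule.projection_apply_eq_zero_iff (hC j).isCompl, map_sub,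
            hPself j _ (Submodule.projection_apply_mem _ x), sub_self]
        rw [map_sub, map_sum, Finset.sum_eq_single j (fun i _ hne => hker i hne)
          (fun h => absurd (Finset.mem_univ j) h), ← map_sub]
        exact mem_comKer.mp hdiff q ((hroot j).symm ▸ hj)
      have h1 : x - ∑ j, P j x ∈ ⨆ i, W i := Submodule.mem_iSup_of_mem (p := W) 0 hd
      have h3 : ∑ j, P j x ∈ ⨆ i, W i := Submodule.sum_mem _ fun j _ =>
        Submodule.mem_iSup_of_mem (p := W) j.succ (Submodule.projection_apply_mem (hC j).isCompl x)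
      have := add_mem h1 h3
      rwa [sub_add_cancel] at this
  refine ⟨n, W, K, Nat.card_pos, hint, fun h hh i => ?_, fun j => ⟨blockGroup_le hH hgen (hΓ j), ?_⟩,
    hsup, fun j => ?_, fun j j' hne a ha b hb => ?_, hfixed, fun j => (hC j).classification⟩
  · refine le_antisymm ?_ fun v hv => ⟨h⁻¹ v, hinv _ (inv_mem hh) i v hv, h.apply_symm_apply v⟩
    rintro _ ⟨v, hv, rfl⟩
    exact hinv h hh i v hv
  · exact ⟨fun m hm g => blockGroup_normal hH hgen (hΓ j) g.2 hm⟩
  · rw [eq_bot_iff]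
    rintro g ⟨hg, hg'⟩
    have hfix : ∀ v ∈ U j, g v = v := by
      let F : Subgroup (V ≃ₗ[ZMod p] V) :=
        { carrier := {g | ∀ v ∈ U j, g v = v}
          one_mem' := fun v _ => rfl
          mul_mem' := fun {a b} ha hb v hv => by rw [LinearEquiv.mul_apply, hb v hv, ha v hv]
          inv_mem' := fun {a} ha v hv => by
            conv_lhs => rw [← ha v hv]
            rw [← LinearEquiv.mul_apply, inv_mul_cancel]
            rfl }
      exact (iSup₂_le fun i hi g hgi => fun v hv =>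
        hfixed i g hgi j.succ (fun h' => hi (Fin.succ_inj.mp h').symm) v hv : _ ≤ F) hg'
    rw [Subgroup.mem_bot]
    refine LinearEquiv.ext fun v => ?_
    obtain ⟨a, ha, b, hb, rfl⟩ := Submodule.mem_sup.mp
      ((hC j).isCompl.sup_eq_top.ge (Submodule.mem_top (x := v)))
    rw [map_add, hfix a ha, (hC j).fix_comKer hg hb]
    rfl
  · induction hb using Subgroup.closure_induction with
    | mem g hg =>
      obtain ⟨r, hr, hgx⟩ := hg
      exact block_commute hH hgen (hΓ j) ((hΓ j').sub hr) (hdisj (Ne.symm hne) r hr) hgx ha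
    | one => rw [one_mul, mul_one]
    | mul x y _ _ hx hy => exact (Commute.mul_right hx hy).eq
    | inv x _ hx => exact (Commute.inv_right hx).eq

end Cfsg.Agent.TransGroups
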