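import Cfsg.Agent.TransGroups.Irred
import Cfsg.Agent.Classical.AltForm
import Cfsg.Agent.Classical.LinearBasic

/-!
# Classification of irreducible transvection groups over a prime field of odd order

Either every transvection is present (special linear group) or the functionals at the points come
from a non-degenerate alternating form (symplectic group).
-/

set_option autoImplicit false

open Module

namespace Cfsg.Agent.TransGroups

variable {p : ℕ} {V : Type*} [AddCommGroup V] [Module (ZMod p) V]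
  {H : Subgroup (V ≃ₗ[ZMod p] V)}

/-- The transvections of H. -/
def TSet (H : Subgroup (V ≃ₗ[ZMod p] V)) : Set (V ≃ₗ[ZMod p] V) :=
  {g | ∃ q ∈ Root H, ∀ x, g x = x + q.2 x • q.1}

theorem In.mem_of_eq {v : V} {φ : Dual (ZMod p) V} (h : In H v φ) {g : V ≃ₗ[ZMod p] V}
    (hg : ∀ x, g x = x + φ x • v) : g ∈ H := by
  obtain ⟨-, g', hg', hgx⟩ := h
  rwa [show g = g' from LinearEquiv.ext fun x => (hg x).trans (hgx x).symm]

theorem TSet_subset : TSet H ⊆ H := fun _ ⟨_, hq, hg⟩ => hq.2.2.mem_of_eq hg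

variable [Fact p.Prime]

theorem TSet_det {g : V ≃ₗ[ZMod p] V} (hg : g ∈ TSet H) : LinearEquiv.det g = 1 := by
  obtain ⟨q, hq, hgx⟩ := hg
  rw [show g = LinearEquiv.transvection hq.2.2.1 from LinearEquiv.ext fun x => hgx x]
  exact LinearEquiv.transvection.det_eq_one _

/-- The determinant one group, when all transvections are present. -/
theorem eq_det_one [Finite V] (hgen : H ≤ Subgroup.closure (TSet H))
    (hfull : ∀ (v : V) (φ : Dual (ZMod p) V), φ v = 0 → In H v φ) :
    (H : Set (V ≃ₗ[ZMod p] V)) =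
      {f : V ≃ₗ[ZMod p] V | LinearMap.det (f : V →ₗ[ZMod p] V) = 1} := by
  have hdet : H ≤ (LinearEquiv.det : (V ≃ₗ[ZMod p] V) →* (ZMod p)ˣ).ker :=
    hgen.trans ((Subgroup.closure_le _).mpr fun g hg => TSet_det hg)
  ext f
  refine ⟨fun hf => ?_, fun hf => ?_⟩
  · have := congrArg Units.val (MonoidHom.mem_ker.mp (hdet hf))
    rwa [LinearEquiv.coe_det, Units.val_one] at this
  set b := Module.finBasis (ZMod p) V
  set e := b.equivFun
  let Φ : Matrix.SpecialLinearGroup (Fin (finrank (ZMod p) V)) (ZMod p) →* (V ≃ₗ[ZMod p] V) :=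
    { toFun := fun A => (e.trans (Matrix.SpecialLinearGroup.toLin' A)).trans e.symm
      map_one' := by ext x; simp
      map_mul' := fun A B => by ext x; simp }
  have htop : H.comap Φ = ⊤ := by
    refine Classical.sl_eq_top_of_transvection _ fun i j hij c => ?_
    refine (hfull (b i) (c • b.coord j) (by simp [hij])).mem_of_eq fun x => e.injective ?_
    show e (e.symm (Matrix.toLin' _ (e x))) = _
    rw [e.apply_symm_apply, map_add, map_smul, Matrix.toLin'_apply,
      show ((Matrix.SpecialLinearGroup.transvection hij c :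
          Matrix.SpecialLinearGroup (Fin (finrank (ZMod p) V)) (ZMod p)) :
        Matrix (Fin (finrank (ZMod p) V)) (Fin (finrank (ZMod p) V)) (ZMod p)) =
          1 + Matrix.single i j c from rfl, Classical.tv_mulVec]
    ext k
    by_cases hk : k = i
    · subst hk; simp [e, mul_comm]
    · simp [e, hk]
  have hM : (LinearMap.toMatrix b b (f : V →ₗ[ZMod p] V)).det = 1 := by
    rw [LinearMap.det_toMatrix]; exact hf
  have hmem := Subgroup.mem_comap.mp (htop.ge (Subgroup.mem_top ⟨_, hM⟩))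
  have heq : Φ ⟨_, hM⟩ = f := by
    ext x
    refine e.injective ?_
    show e (e.symm (Matrix.toLin' _ (e x))) = _
    rw [e.apply_symm_apply, Matrix.toLin'_apply]
    exact LinearMap.toMatrix_mulVec_repr b b (f : V →ₗ[ZMod p] V) x
  rwa [heq] at hmem

namespace Irred

variable [Finite V] (I : Irred H)
include I

omit [Finite V] in
/-- The functionals at every point come from one alternating form. -/
theorem exists_form (hone : ∀ v : V, v ≠ 0 → finrank (ZMod p) (funcs H v) = 1) [Finite V]
    {e : V} (he : e ≠ 0) :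
    ∃ B : LinearMap.BilinForm (ZMod p) V, B.IsAlt ∧ B.Nondegenerate ∧
      ∀ (v : V) (φ : Dual (ZMod p) V), v ≠ 0 → (In H v φ ↔ ∃ c : ZMod p, φ = c • B.flip v) := by
  have hc : ∀ v : V, ∃ φ : Dual (ZMod p) V, v ≠ 0 → φ ∈ funcs H v ∧ φ ≠ 0 := by
    intro v
    by_cases hv : v = 0
    · exact ⟨0, fun h => absurd hv h⟩
    · obtain ⟨φ, -, hφ, hin⟩ := I.cent_all hv
      exact ⟨φ, fun _ => ⟨hin, hφ⟩⟩
  choose φf hφf using hc
  have hline : ∀ v : V, v ≠ 0 → ∀ ψ : Dual (ZMod p) V, In H v ψ → ∃ c : ZMod p, c • φf v = ψ := by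
    intro v hv ψ hψ
    obtain ⟨h1, h2⟩ := hφf v hv
    obtain ⟨c, hc⟩ := (finrank_eq_one_iff_of_nonzero' (⟨φf v, h1⟩ : funcs H v)
      (fun h => h2 (congrArg Subtype.val h))).mp (hone v hv) ⟨ψ, hψ⟩
    exact ⟨c, congrArg Subtype.val hc⟩
  have hself : ∀ v : V, v ≠ 0 → φf v v = 0 := fun v hv => (hφf v hv).1.1
  have hperp : ∀ v x : V, v ≠ 0 → x ≠ 0 → φf v x = 0 → φf x v = 0 := by
    intro v x hv hx h
    by_contra hne
    obtain ⟨ψ, hψ, hψx⟩ := I.symm' ⟨φf x, (hφf x hx).1, hne⟩ hx
    obtain ⟨c, rfl⟩ := hline v hv ψ hψ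
    exact hψx (by rw [LinearMap.smul_apply, h, smul_zero])
  set G : Set V := {v | φf e v ≠ 0} with hGdef
  have hGne : ∀ v ∈ G, v ≠ 0 := fun v hv h => hv (by rw [h, map_zero])
  have hGe : ∀ v ∈ G, φf v e ≠ 0 := fun v hv h => hv (hperp v e (hGne v hv) he h)
  set L : V → Dual (ZMod p) V := fun v => (-φf e v * (φf v e)⁻¹) • φf v with hL
  have hLe : ∀ v ∈ G, L v e = -φf e v := fun v hv => by simp [hL, hGe v hv]
  have hL0 : ∀ v ∈ G, -φf e v * (φf v e)⁻¹ ≠ 0 := fun v hv =>
    mul_ne_zero (neg_ne_zero.mpr hv) (inv_ne_zero (hGe v hv))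
  have hLker : ∀ v ∈ G, ∀ x, L v x = 0 ↔ φf v x = 0 := fun v hv x => by
    simp only [hL, LinearMap.smul_apply, smul_eq_mul, mul_eq_zero, hL0 v hv, false_or]
  -- antisymmetry on G
  have hanti : ∀ a ∈ G, ∀ b ∈ G, L b a = -L a b := by
    intro a ha b hb
    set r := (L a b * (φf e a)⁻¹) • e - (φf e b * (φf e a)⁻¹) • a + b with hr
    have h1 : φf e r = 0 := by
      simp [hr, hself e he, mul_assoc, inv_mul_cancel₀ (show φf e a ≠ 0 from ha)]
    have h2 : L a r = 0 := by
      have haa : L a a = 0 := (hLker a ha a).mpr (hself a (hGne a ha))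
      simp [hr, hLe a ha, haa, mul_assoc, inv_mul_cancel₀ (show φf e a ≠ 0 from ha)]
    have h3 : L b r = 0 := by
      refine (hLker b hb r).mpr ?_
      by_cases hr0 : r = 0
      · rw [hr0, map_zero]
      refine hperp r b hr0 (hGne b hb) ?_
      have e1 := hperp e r he hr0 h1
      have e2 := hperp a r (hGne a ha) hr0 ((hLker a ha r).mp h2)
      have e3 : φf r ((L a b * (φf e a)⁻¹) • e - (φf e b * (φf e a)⁻¹) • a + b) = 0 := by
        rw [← hr]; exact hself r hr0
      simpa [e1, e2] using e3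
    have hbb : L b b = 0 := (hLker b hb b).mpr (hself b (hGne b hb))
    simp [hr, hLe b hb, hbb] at h3
    field_simp [show φf e a ≠ 0 from ha, show φf e b ≠ 0 from hb] at h3
    rw [mul_zero, mul_eq_zero, or_iff_right (show φf e b ≠ 0 from hb)] at h3
    linear_combination -h3
  have hGspan : (⊤ : Submodule (ZMod p) V) ≤ Submodule.span (ZMod p) G := by
    obtain ⟨g, hg⟩ : ∃ g, φf e g ≠ 0 := by
      by_contra h
      push Not at h
      exact (hφf e he).2 (LinearMap.ext h)
    intro z _
    by_cases hz : φf e z = 0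
    · have hzg : z + g ∈ G := by simpa [hGdef, hz] using hg
      have := sub_mem (Submodule.subset_span (R := ZMod p) hzg) (Submodule.subset_span (R := ZMod p) (show g ∈ G from hg))
      rwa [add_sub_cancel_right] at this
    · exact Submodule.subset_span hz
  set b := Basis.ofSpan hGspan
  have hbG : ∀ i, b i ∈ G := fun i => Basis.ofSpan_subset hGspan ⟨i, rfl⟩
  set M : V →ₗ[ZMod p] Dual (ZMod p) V := b.constr (ZMod p) (fun i => L (b i)) with hM
  have hMb : ∀ i, M (b i) = L (b i) := fun i => b.constr_basis (ZMod p) _ i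
  have hMG : ∀ v ∈ G, M v = L v := by
    intro v hv
    refine b.ext fun i => ?_
    have hlin : M.flip (b i) = -L (b i) := b.ext fun j => by
      rw [LinearMap.flip_apply, hMb, LinearMap.neg_apply]
      exact hanti _ (hbG i) _ (hbG j)
    have := congrArg (fun f : Dual (ZMod p) V => f v) hlin
    simp only [LinearMap.flip_apply, LinearMap.neg_apply] at this
    rw [this, hanti _ (hbG i) _ hv]
  have hMflip : M.flip = -M := b.ext fun i => b.ext fun j => by
    rw [LinearMap.flip_apply, LinearMap.neg_apply, LinearMap.neg_apply, hMb, hMb]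
    exact hanti _ (hbG i) _ (hbG j)
  have hMsymm : ∀ x y, M y x = -M x y := fun x y => by
    have := congrArg (fun f : V →ₗ[ZMod p] Dual (ZMod p) V => f x y) hMflip
    simpa using this
  have hMe : M e = φf e := by
    refine b.ext fun i => ?_
    rw [hMsymm (b i) e, hMb, hLe _ (hbG i), neg_neg]
  -- points with a common perpendicular point in G
  have hgood : ∀ z g, z ≠ 0 → g ∈ G → φf z g = 0 → ∀ x, φf z x = 0 → M z x = 0 := by
    intro z g hz hg hzg x hzx
    have key : ∀ y ∈ G, φf z y = 0 → M z y = 0 := fun y hy h => by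
      rw [hMsymm y z, hMG y hy, (hLker y hy z).mpr (hperp z y hz (hGne y hy) h), neg_zero]
    by_cases hx : φf e x = 0
    · have h1 := key g hg hzg
      have h2 := key (g + x) (by simpa [hGdef, hx] using hg) (by simp [hzg, hzx])
      rwa [map_add, h1, zero_add] at h2
    · exact key x hx hzx
  have hker : ∀ v, v ≠ 0 → ∀ x, φf v x = 0 → M v x = 0 := by
    intro v hv x hvx
    by_cases h : ∃ g ∈ G, φf v g = 0
    · obtain ⟨g, hg, hvg⟩ := h
      exact hgood v g hv hg hvg x hvx
    push Not at h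
    have hex : φf e x = 0 := by
      by_contra hne
      exact h x hne hvx
    by_cases hx : x = 0
    · rw [hx, map_zero]
    obtain ⟨g, hg⟩ : ∃ g, g ∈ G := by
      by_contra hno
      push Not at hno
      exact (hφf e he).2 (LinearMap.ext fun y => not_not.mp (hno y))
    set t := -φf g v * (φf g e)⁻¹
    have hgv : φf g (v + t • e) = 0 := by
      simp [t, mul_assoc, inv_mul_cancel₀ (hGe g hg)]
    have hMv : M v x = M (v + t • e) x := by simp [hMe, hex]
    rw [hMv]
    by_cases hv' : v + t • e = 0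
    · rw [hv', map_zero, LinearMap.zero_apply]
    refine hgood _ g hv' hg (hperp g _ (hGne g hg) hv' hgv) x (hperp x _ hx hv' ?_)
    simp [hperp v x hv hx hvx, hperp e x he hx hex]
  have hne : ∀ v, v ≠ 0 → M v ≠ 0 := by
    intro v hv h0
    obtain ⟨x, hx, hvx⟩ : ∃ x ∈ G, φf v x ≠ 0 := by
      by_contra h
      push Not at h
      exact (hφf v hv).2 (LinearMap.ext fun y => (Submodule.span_le.mpr h :
        _ ≤ LinearMap.ker (φf v)) (hGspan trivial))
    have h2 : L x v = 0 := by rw [← hMG x hx, hMsymm v x, h0]; simp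
    exact hvx (hperp x v (hGne x hx) hv ((hLker x hx v).mp h2))
  have hprop : ∀ v, v ≠ 0 → ∃ c : ZMod p, c ≠ 0 ∧ M v = c • φf v := by
    intro v hv
    obtain ⟨y, hy⟩ : ∃ y, φf v y ≠ 0 := by
      by_contra h
      push Not at h
      exact (hφf v hv).2 (LinearMap.ext h)
    have he' : M v = (M v y * (φf v y)⁻¹) • φf v := by
      refine LinearMap.ext fun x => ?_
      have := hker v hv (x - (φf v x * (φf v y)⁻¹) • y) (by simp [hy])
      simp only [map_sub, map_smul, smul_eq_mul, sub_eq_zero] at this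
      rw [this, LinearMap.smul_apply, smul_eq_mul]
      ring
    exact ⟨_, fun h0 => hne v hv (by rw [he', h0, zero_smul]), he'⟩
  refine ⟨M.flip, fun x => ?_, ⟨fun x hx => ?_, fun y hy => ?_⟩, fun v φ hv => ?_⟩
  · have h := hMsymm x x
    rw [LinearMap.flip_apply]
    exact (mul_eq_zero.mp (show (2 : ZMod p) * M x x = 0 by linear_combination h)).resolve_left I.two
  · by_contra h0
    exact hne x h0 (LinearMap.ext fun y => by
      rw [hMsymm y x]
      simpa using hx y)
  · by_contra h0
    exact hne y h0 (LinearMap.ext fun x => by simpa using hy x)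
  · obtain ⟨c, hc, hMv⟩ := hprop v hv
    rw [show LinearMap.BilinForm.flip M.flip v = M v from rfl]
    refine ⟨fun h => ?_, ?_⟩
    · obtain ⟨d, rfl⟩ := hline v hv φ h
      exact ⟨d * c⁻¹, by rw [hMv, smul_smul, mul_assoc, inv_mul_cancel₀ hc, mul_one]⟩
    · rintro ⟨d, rfl⟩
      rw [hMv, smul_smul]
      exact (funcs H v).smul_mem _ (hφf v hv).1

/-- An irreducible transvection group is special linear or symplectic. -/
theorem classify (hgen : H ≤ Subgroup.closure (TSet H)) :
    (H : Set (V ≃ₗ[ZMod p] V)) =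
        {f : V ≃ₗ[ZMod p] V | LinearMap.det (f : V →ₗ[ZMod p] V) = 1} ∨
      ∃ B : LinearMap.BilinForm (ZMod p) V, B.IsAlt ∧ B.Nondegenerate ∧
        (H : Set (V ≃ₗ[ZMod p] V)) = {f : V ≃ₗ[ZMod p] V | ∀ x y, B (f x) (f y) = B x y} := by
  by_cases hfull : ∀ (v : V) (φ : Dual (ZMod p) V), φ v = 0 → In H v φ
  · exact .inl (eq_det_one hgen hfull)
  obtain ⟨e, he⟩ : ∃ e : V, e ≠ 0 := by
    by_contra h
    push Not at h
    exact hfull fun v φ hφ => ⟨hφ, 1, one_mem H, fun x => by simp [h v]⟩
  obtain ⟨B, hA, hB, hiff⟩ := I.exists_form (I.dichotomy.resolve_right hfull) he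
  refine .inr ⟨B, hA, hB, ?_⟩
  suffices h : H = Classical.Alt.isoGroup B by rw [h]; rfl
  refine le_antisymm (hgen.trans ((Subgroup.closure_le _).mpr ?_)) ?_
  · rintro g ⟨⟨v, φ⟩, ⟨hv, -, hin⟩, hg⟩
    obtain ⟨c, rfl⟩ := (hiff v φ hv).mp hin
    rw [show g = Classical.Alt.tv hA v c from LinearEquiv.ext fun x => by
      rw [hg, Classical.Alt.tv_apply]; rfl]
    exact Classical.Alt.tv_mem_isoGroup hA v c
  · rw [← Classical.Alt.TG_top hA hB]
    refine (Subgroup.closure_le _).mpr ?_
    rintro g ⟨v, -, c, hg⟩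
    by_cases hv : v = 0
    · rw [show g = 1 from LinearEquiv.ext fun x => by simp [hg, hv]]
      exact one_mem H
    · exact ((hiff v (c • B.flip v) hv).mpr ⟨c, rfl⟩).mem_of_eq hg

end Irred

end Cfsg.Agent.TransGroups
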