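import Cfsg.Agent.TransGroups.Classify

/-!
# One component of a transvection group

A transvection group without normal p-subgroup whose pairs are all joined: the space is the direct
sum of the span of the centres and the common kernel, and the group is special linear or symplectic
on the first summand.
-/

set_option autoImplicit false
set_option linter.unusedSectionVars false

open Module Relation

namespace Cfsg.Agent.TransGroups

variable {p : ℕ} {V : Type*} [AddCommGroup V] [Module (ZMod p) V]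
  {K : Subgroup (V ≃ₗ[ZMod p] V)}

/-- The span of the centres. -/
def centSpan (K : Subgroup (V ≃ₗ[ZMod p] V)) : Submodule (ZMod p) V :=
  Submodule.span (ZMod p) {v | Cent K v}

/-- The common kernel of the functionals. -/
def comKer (K : Subgroup (V ≃ₗ[ZMod p] V)) : Submodule (ZMod p) V :=
  ⨅ q ∈ Root K, LinearMap.ker q.2

/-- A component. -/
structure Comp (K : Subgroup (V ≃ₗ[ZMod p] V)) : Prop where
  two : (2 : ZMod p) ≠ 0
  core : NoPCore p K
  gen : K ≤ Subgroup.closure (TSet K)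
  joined : ∀ q ∈ Root K, ∀ r ∈ Root K, ReflTransGen (Link K) q r

theorem root_mem_centSpan {q : V × Dual (ZMod p) V} (hq : q ∈ Root K) : q.1 ∈ centSpan K :=
  Submodule.subset_span ⟨q.2, hq⟩

theorem mem_comKer {x : V} : x ∈ comKer K ↔ ∀ q ∈ Root K, q.2 x = 0 := by
  simp [comKer, Submodule.mem_iInf]

/-- A faithful linear model of a component on a quotient of the span of its centres. -/
structure Model (K : Subgroup (V ≃ₗ[ZMod p] V)) (M : Type*) [AddCommGroup M] [Module (ZMod p) M]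
    where
  π : centSpan K →ₗ[ZMod p] M
  surj : Function.Surjective π
  ker : ∀ u, π u = 0 ↔ (u : V) ∈ comKer K
  ρ : K →* (M ≃ₗ[ZMod p] M)
  comm : ∀ (g : K) (u u' : centSpan K), (g : V ≃ₗ[ZMod p] V) u = u' → ρ g (π u) = π u'

theorem pi_eq {M : Type*} [AddCommGroup M] [Module (ZMod p) M] (m : Model K M) {a b : centSpan K} :
    m.π a = m.π b ↔ (a : V) - b ∈ comKer K := by
  rw [← sub_eq_zero, ← map_sub, m.ker]
  rfl

namespace Comp

variable [Fact p.Prime] [Finite V] (C : Comp K)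
include C

theorem sub_mem_centSpan {g : V ≃ₗ[ZMod p] V} (hg : g ∈ K) (x : V) : g x - x ∈ centSpan K := by
  refine Subgroup.closure_induction (p := fun g _ => ∀ x, g x - x ∈ centSpan K) ?_ (fun x => by simp)
    ?_ ?_ (C.gen hg) x
  · rintro g ⟨q, hq, hgx⟩ x
    rw [hgx, add_sub_cancel_left]
    exact Submodule.smul_mem _ _ (root_mem_centSpan hq)
  · intro a b _ _ ha hb x
    rw [LinearEquiv.mul_apply, show a (b x) - x = (a (b x) - b x) + (b x - x) by abel]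
    exact add_mem (ha _) (hb x)
  · intro a _ ha x
    have := ha (a⁻¹ x)
    rw [← LinearEquiv.mul_apply, mul_inv_cancel] at this
    have h2 := neg_mem this
    rwa [neg_sub] at h2

theorem maps_centSpan {g : V ≃ₗ[ZMod p] V} (hg : g ∈ K) {x : V} (hx : x ∈ centSpan K) :
    g x ∈ centSpan K := by
  have := add_mem (C.sub_mem_centSpan hg x) hx
  rwa [sub_add_cancel] at this

theorem fix_comKer {g : V ≃ₗ[ZMod p] V} (hg : g ∈ K) {x : V} (hx : x ∈ comKer K) : g x = x := by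
  refine Subgroup.closure_induction (p := fun g _ => ∀ x ∈ comKer K, g x = x) ?_ (fun x _ => rfl)
    ?_ ?_ (C.gen hg) x hx
  · rintro g ⟨q, hq, hgx⟩ x hx
    rw [hgx, mem_comKer.mp hx q hq, zero_smul, add_zero]
  · intro a b _ _ ha hb x hx
    rw [LinearEquiv.mul_apply, hb x hx, ha x hx]
  · intro a _ ha x hx
    conv_lhs => rw [← ha x hx]
    rw [← LinearEquiv.mul_apply, inv_mul_cancel]
    rfl

/-- An element of K is determined by its action on the centres modulo the common kernel. -/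
theorem faith {g g' : V ≃ₗ[ZMod p] V} (hg : g ∈ K) (hg' : g' ∈ K)
    (h : ∀ u ∈ centSpan K, g u - g' u ∈ comKer K) : g = g' := by
  let N : Subgroup (V ≃ₗ[ZMod p] V) :=
    { carrier := {n | n ∈ K ∧ ∀ u ∈ centSpan K, n u - u ∈ comKer K}
      one_mem' := ⟨one_mem K, fun u _ => by simp⟩
      mul_mem' := by
        rintro a b ⟨a1, a2⟩ ⟨b1, b2⟩
        refine ⟨mul_mem a1 b1, fun u hu => ?_⟩
        rw [LinearEquiv.mul_apply, show a (b u) - u = (a (b u) - b u) + (b u - u) by abel]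
        exact add_mem (a2 _ (C.maps_centSpan b1 hu)) (b2 u hu)
      inv_mem' := by
        rintro a ⟨a1, a2⟩
        refine ⟨inv_mem a1, fun u hu => ?_⟩
        have := a2 _ (C.maps_centSpan (inv_mem a1) hu)
        rw [← LinearEquiv.mul_apply, mul_inv_cancel] at this
        have h2 := neg_mem this
        rwa [neg_sub] at h2 }
  have hN : N = ⊥ := by
    refine C.core N (fun _ hn => hn.1) ?_ ?_
    · rintro k hk n ⟨n1, n2⟩
      refine ⟨mul_mem (mul_mem hk n1) (inv_mem hk), fun u hu => ?_⟩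
      have hw := n2 _ (C.maps_centSpan (inv_mem hk) hu)
      have := C.fix_comKer hk hw
      rw [map_sub, ← LinearEquiv.mul_apply k k⁻¹ u, mul_inv_cancel] at this
      rw [LinearEquiv.mul_apply, LinearEquiv.mul_apply]
      exact this.symm ▸ hw
    · refine isPGroup_of_series (centSpan K) (centSpan K ⊓ comKer K) N
        (fun n hn x => C.sub_mem_centSpan hn.1 x)
        (fun n hn x hx => ⟨C.sub_mem_centSpan hn.1 x, hn.2 x hx⟩) fun n hn x hx => ?_
      exact C.fix_comKer hn.1 hx.2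
  have hmem : g'⁻¹ * g ∈ N := by
    refine ⟨mul_mem (inv_mem hg') hg, fun u hu => ?_⟩
    have hd := h u hu
    have := C.fix_comKer (inv_mem hg') hd
    rw [map_sub, ← LinearEquiv.mul_apply g'⁻¹ g' u, inv_mul_cancel] at this
    rw [LinearEquiv.mul_apply]
    exact this.symm ▸ hd
  rw [hN, Subgroup.mem_bot, inv_mul_eq_one] at hmem
  exact hmem.symm

theorem exists_ne_zero {q : V × Dual (ZMod p) V} (hq : q ∈ Root K) :
    q.1 ∉ comKer K ∧ ∃ u ∈ centSpan K, q.2 u ≠ 0 := by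
  obtain ⟨r, hr⟩ := exists_opp C.core hq
  exact ⟨fun h => hr.2.2.2 (mem_comKer.mp h r hr.2.1), r.1, root_mem_centSpan hr.2.1, hr.2.2.1⟩

/-- The quotient of the span of centres by the common kernel is a model. -/
theorem exists_model : Nonempty
    (Model K ((centSpan K) ⧸ (comKer K).comap (centSpan K).subtype)) := by
  let r : K →* (centSpan K ≃ₗ[ZMod p] centSpan K) :=
    { toFun := fun g =>
        { toFun := fun u => ⟨g.1 u.1, C.maps_centSpan g.2 u.2⟩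
          map_add' := fun a b => Subtype.ext (map_add g.1 a.1 b.1)
          map_smul' := fun c a => Subtype.ext (map_smul g.1 c a.1)
          invFun := fun u => ⟨g.1⁻¹ u.1, C.maps_centSpan (inv_mem g.2) u.2⟩
          left_inv := fun u => Subtype.ext (g.1.symm_apply_apply u.1)
          right_inv := fun u => Subtype.ext (g.1.apply_symm_apply u.1) }
      map_one' := rfl
      map_mul' := fun _ _ => rfl }
  set R := (comKer K).comap (centSpan K).subtype
  have hR : ∀ g : K, R.map (r g : centSpan K →ₗ[ZMod p] centSpan K) = R := by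
    intro g
    apply le_antisymm
    · rintro _ ⟨u, hu, rfl⟩
      show g.1 u.1 ∈ comKer K
      exact (C.fix_comKer g.2 hu).symm ▸ hu
    · intro u hu
      exact ⟨u, hu, Subtype.ext (C.fix_comKer g.2 hu)⟩
  refine ⟨⟨R.mkQ, R.mkQ_surjective, fun u => Submodule.Quotient.mk_eq_zero R,
    { toFun := fun g => Submodule.Quotient.equiv R R (r g) (hR g)
      map_one' := ?_
      map_mul' := ?_ }, fun g u u' h => ?_⟩⟩
  · apply LinearEquiv.toLinearMap_injective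
    exact Submodule.linearMap_qext _ (LinearMap.ext fun u => rfl)
  · intro a b
    apply LinearEquiv.toLinearMap_injective
    exact Submodule.linearMap_qext _ (LinearMap.ext fun u => rfl)
  · show R.mkQ (r g u) = R.mkQ u'
    exact congrArg _ (Subtype.ext h)

section model

variable {M : Type*} [AddCommGroup M] [Module (ZMod p) M] (m : Model K M)

theorem rho_injective : Function.Injective m.ρ := by
  intro a b hab
  refine Subtype.ext (C.faith a.2 b.2 fun u hu => ?_)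
  have h1 := m.comm a ⟨u, hu⟩ ⟨_, C.maps_centSpan a.2 hu⟩ rfl
  have h2 := m.comm b ⟨u, hu⟩ ⟨_, C.maps_centSpan b.2 hu⟩ rfl
  rw [hab, h2] at h1
  exact (pi_eq m).mp h1.symm

/-- The functional induced on the model. -/
theorem exists_bar {φ : Dual (ZMod p) V} (hφ : ∀ x ∈ comKer K, φ x = 0) :
    ∃ ψ : Dual (ZMod p) M, ∀ u, ψ (m.π u) = φ u := by
  let s := Function.surjInv m.surj
  have hs : ∀ x, m.π (s x) = x := Function.surjInv_eq m.surj
  have hwell : ∀ {a b : centSpan K}, m.π a = m.π b → φ a = φ b := fun {a b} h => by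
    have := hφ _ ((pi_eq m).mp h)
    rwa [map_sub, sub_eq_zero] at this
  refine ⟨{ toFun := fun x => φ (s x), map_add' := fun x y => ?_, map_smul' := fun c x => ?_ },
    fun u => hwell (hs _)⟩
  · rw [← map_add]
    exact hwell (a := s (x + y)) (b := s x + s y) (by rw [map_add, hs, hs, hs])
  · rw [RingHom.id_apply, ← map_smul]
    exact hwell (a := s (c • x)) (b := c • s x) (by rw [map_smul, hs, hs])

/-- The pair (v, φ) lies over (x, ψ). -/
def Lift (v : V) (φ : Dual (ZMod p) V) (x : M) (ψ : Dual (ZMod p) M) : Prop :=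
  (v, φ) ∈ Root K ∧ (∃ h : v ∈ centSpan K, m.π ⟨v, h⟩ = x) ∧ ∀ u, ψ (m.π u) = φ u

theorem rho_trans {v : V} {φ : Dual (ZMod p) V} {x : M} {ψ : Dual (ZMod p) M}
    (h : Lift m v φ x ψ) {g : V ≃ₗ[ZMod p] V} (hg : ∀ y, g y = y + φ y • v) (hgK : g ∈ K) (z : M) :
    m.ρ ⟨g, hgK⟩ z = z + ψ z • x := by
  obtain ⟨-, ⟨hv, rfl⟩, hψ⟩ := h
  obtain ⟨u, rfl⟩ := m.surj z
  rw [m.comm ⟨g, hgK⟩ u (u + φ u • ⟨v, hv⟩) (hg u.1), map_add, map_smul, hψ]

theorem lift_root {v : V} {φ : Dual (ZMod p) V} {x : M} {ψ : Dual (ZMod p) M}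
    (h : Lift m v φ x ψ) : (x, ψ) ∈ Root m.ρ.range := by
  obtain ⟨hq, ⟨hv, hx⟩, hψ⟩ := h
  obtain ⟨h1, u, hu, hne⟩ := C.exists_ne_zero hq
  obtain ⟨g, hg, hgx⟩ := hq.2.2.2
  refine ⟨fun h0 => h1 ((m.ker ⟨v, hv⟩).mp (hx.trans h0)), fun h0 => hne ?_,
    by rw [← hx, hψ]; exact hq.2.2.1, m.ρ ⟨g, hg⟩, ⟨_, rfl⟩,
    C.rho_trans m ⟨hq, ⟨hv, hx⟩, hψ⟩ hgx hg⟩
  have := hψ ⟨u, hu⟩
  rw [show ψ = 0 from h0, LinearMap.zero_apply] at this
  exact this.symm

theorem image_root {q : V × Dual (ZMod p) V} (hq : q ∈ Root K) :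
    ∃ ψ, Lift m q.1 q.2 (m.π ⟨q.1, root_mem_centSpan hq⟩) ψ ∧
      (m.π ⟨q.1, root_mem_centSpan hq⟩, ψ) ∈ Root m.ρ.range := by
  obtain ⟨ψ, hψ⟩ := C.exists_bar m (φ := q.2) fun x hx => mem_comKer.mp hx q hq
  have h : Lift m q.1 q.2 (m.π ⟨q.1, root_mem_centSpan hq⟩) ψ := ⟨hq, ⟨_, rfl⟩, hψ⟩
  exact ⟨ψ, h, C.lift_root m h⟩

theorem model_noPCore : NoPCore p m.ρ.range := by
  intro N hN hn hp
  have hbot := C.core ((N.comap m.ρ).map K.subtype) (Subgroup.map_subtype_le _)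
    (by
      rintro h hh _ ⟨n, hn', rfl⟩
      refine ⟨⟨h, hh⟩ * n * ⟨h, hh⟩⁻¹, ?_, rfl⟩
      show m.ρ _ ∈ N
      rw [map_mul, map_mul, map_inv]
      exact hn _ ⟨_, rfl⟩ _ hn')
    ((hp.comap_of_injective m.ρ (C.rho_injective m)).map _)
  rw [eq_bot_iff]
  intro n hn'
  obtain ⟨a, rfl⟩ := hN hn'
  have ha : (a : V ≃ₗ[ZMod p] V) = 1 := Subgroup.mem_bot.mp (hbot ▸ ⟨a, hn', rfl⟩)
  rw [show a = 1 from Subtype.ext ha, map_one]
  exact one_mem _

theorem model_span :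
    Submodule.span (ZMod p) {x : M | ∃ ψ, (x, ψ) ∈ Root m.ρ.range} = ⊤ := by
  rw [eq_top_iff]
  intro x _
  obtain ⟨⟨u, hu⟩, rfl⟩ := m.surj x
  refine Submodule.span_induction (p := fun u hu => m.π ⟨u, hu⟩ ∈
    Submodule.span (ZMod p) {x : M | ∃ ψ, (x, ψ) ∈ Root m.ρ.range}) ?_ ?_ ?_ ?_ hu
  · rintro v ⟨φ, hq⟩
    obtain ⟨ψ, -, h⟩ := C.image_root m hq
    exact Submodule.subset_span ⟨ψ, h⟩
  · exact (show m.π (0 : centSpan K) ∈ _ by rw [map_zero]; exact zero_mem _)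
  · intro a b ha hb h1 h2
    exact (show m.π (⟨a, ha⟩ + ⟨b, hb⟩ : centSpan K) ∈ _ by rw [map_add]; exact add_mem h1 h2)
  · intro c a ha h1
    exact (show m.π (c • ⟨a, ha⟩ : centSpan K) ∈ _ by
      rw [map_smul]; exact Submodule.smul_mem _ _ h1)

variable [Finite M]

/-- The image of a fixed pair reaches every pair of the model. -/
theorem model_reach {q : V × Dual (ZMod p) V} (hq : q ∈ Root K) {s : M × Dual (ZMod p) M}
    (hs : s ∈ Root m.ρ.range) {ψ : Dual (ZMod p) M}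
    (hψ : Lift m q.1 q.2 (m.π ⟨q.1, root_mem_centSpan hq⟩) ψ) :
    ReflTransGen (Link m.ρ.range) (m.π ⟨q.1, root_mem_centSpan hq⟩, ψ) s := by
  obtain ⟨y, hy⟩ : ∃ y, s.2 y ≠ 0 := by
    by_contra h
    push Not at h
    exact hs.2.1 (LinearMap.ext h)
  obtain ⟨c, ⟨θ, hθ⟩, hc⟩ : ∃ c ∈ {x : M | ∃ ψ, (x, ψ) ∈ Root m.ρ.range}, (∃ r, ∃ hr : r ∈ Root K,
      m.π ⟨r.1, root_mem_centSpan hr⟩ = c) ∧ s.2 c ≠ 0 := by
    obtain ⟨⟨u, hu⟩, rfl⟩ := m.surj y
    by_contra h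
    push Not at h
    refine hy (Submodule.span_induction (p := fun u hu => s.2 (m.π ⟨u, hu⟩) = 0) ?_ ?_ ?_ ?_ hu)
    · rintro v ⟨φ, hr⟩
      obtain ⟨ψ', -, h'⟩ := C.image_root m hr
      exact h _ ⟨ψ', h'⟩ ⟨_, hr, rfl⟩
    · exact (show s.2 (m.π (0 : centSpan K)) = 0 by simp)
    · intro a b ha hb h1 h2
      exact (show s.2 (m.π (⟨a, ha⟩ + ⟨b, hb⟩ : centSpan K)) = 0 by simp [h1, h2])
    · intro c a ha h1
      exact (show s.2 (m.π (c • ⟨a, ha⟩ : centSpan K)) = 0 by simp [h1])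
  obtain ⟨⟨r, hr, rfl⟩, hc⟩ := hc
  obtain ⟨χ, hχ, hχr⟩ := C.image_root m hr
  refine ReflTransGen.trans ?_ (reach_symm (reach_of_ne_zero (C.model_noPCore m) hs hχr hc))
  -- carry a chain of the component to the model
  suffices key : ∀ a, ReflTransGen (Link K) q a → ∃ (ha : a ∈ Root K) (ψ' : Dual (ZMod p) M),
      Lift m a.1 a.2 (m.π ⟨a.1, root_mem_centSpan ha⟩) ψ' ∧
        ReflTransGen (Link m.ρ.range) (m.π ⟨q.1, root_mem_centSpan hq⟩, ψ)
          (m.π ⟨a.1, root_mem_centSpan ha⟩, ψ') by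
    obtain ⟨_, ψ', hψ', hreach⟩ := key r (C.joined q hq r hr)
    have : ψ' = χ := by
      refine LinearMap.ext fun z => ?_
      obtain ⟨u, rfl⟩ := m.surj z
      rw [hψ'.2.2, hχ.2.2]
    exact this ▸ hreach
  intro a ha
  induction ha with
  | refl => exact ⟨hq, ψ, hψ, .refl⟩
  | @tail a b _ hl ih =>
    obtain ⟨haR, ψa, hψa, hreach⟩ := ih
    obtain ⟨ψb, hψb, hbr⟩ := C.image_root m hl.2.1
    refine ⟨hl.2.1, ψb, hψb, hreach.tail ⟨C.lift_root m hψa, hbr, ?_, ?_⟩⟩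
    · rw [hψa.2.2]; exact hl.2.2.1
    · rw [hψb.2.2]; exact hl.2.2.2

theorem model_irred : Irred m.ρ.range where
  two := C.two
  span := C.model_span m
  kernel := by
    intro x hx
    obtain ⟨u, rfl⟩ := m.surj x
    obtain ⟨q, hq, hne⟩ : ∃ q ∈ Root K, q.2 u ≠ 0 := by
      by_contra h
      push Not at h
      exact hx ((m.ker u).mpr (mem_comKer.mpr h))
    obtain ⟨ψ, hψ, hr⟩ := C.image_root m hq
    exact ⟨_, hr, by rw [hψ.2.2]; exact hne⟩
  joined := by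
    intro s hs t ht
    obtain ⟨q, hq⟩ : ∃ q, q ∈ Root K := by
      by_contra h
      push Not at h
      obtain ⟨u, hu⟩ := m.surj s.1
      exact hs.1 (hu ▸ (m.ker u).mpr (mem_comKer.mpr fun q hq => (h q hq).elim))
    obtain ⟨ψ, hψ, -⟩ := C.image_root m hq
    exact (reach_symm (C.model_reach m hq hs hψ)).trans (C.model_reach m hq ht hψ)

theorem model_gen : m.ρ.range ≤ Subgroup.closure (TSet m.ρ.range) := by
  rintro _ ⟨⟨g, hg⟩, rfl⟩
  have : ∀ g' (hg' : g' ∈ Subgroup.closure (TSet K)), ∀ h : g' ∈ K,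
      m.ρ ⟨g', h⟩ ∈ Subgroup.closure (TSet m.ρ.range) := by
    intro g' hg'
    induction hg' using Subgroup.closure_induction with
    | mem x hx =>
      intro h
      obtain ⟨q, hq, hgx⟩ := hx
      obtain ⟨ψ, hψ, hr⟩ := C.image_root m hq
      exact Subgroup.subset_closure ⟨_, hr, C.rho_trans m hψ hgx h⟩
    | one =>
      intro h
      rw [show (⟨1, h⟩ : K) = 1 from rfl, map_one]
      exact one_mem _
    | mul a b ha hb iha ihb =>
      intro h
      have haK : a ∈ K := (Subgroup.closure_le _).mpr TSet_subset ha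
      have hbK : b ∈ K := (Subgroup.closure_le _).mpr TSet_subset hb
      rw [show (⟨a * b, h⟩ : K) = ⟨a, haK⟩ * ⟨b, hbK⟩ from rfl, map_mul]
      exact mul_mem (iha haK) (ihb hbK)
    | inv a ha iha =>
      intro h
      have haK : a ∈ K := (Subgroup.closure_le _).mpr TSet_subset ha
      rw [show (⟨a⁻¹, h⟩ : K) = ⟨a, haK⟩⁻¹ from rfl, map_inv]
      exact inv_mem (iha haK)
  exact this g (C.gen hg) hg

/-- Every pair of the model has a lift. -/
theorem exists_lift {s : M × Dual (ZMod p) M} (hs : s ∈ Root m.ρ.range) :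
    ∃ v φ, Lift m v φ s.1 s.2 := by
  obtain ⟨q, hq⟩ : ∃ q, q ∈ Root K := by
    by_contra h
    push Not at h
    obtain ⟨u, hu⟩ := m.surj s.1
    exact hs.1 (hu ▸ (m.ker u).mpr (mem_comKer.mpr fun q hq => (h q hq).elim))
  obtain ⟨ψ, hψ, -⟩ := C.image_root m hq
  have hreach := C.model_reach m hq hs hψ
  induction hreach with
  | refl => exact ⟨_, _, hψ⟩
  | @tail a b _ hl ih =>
    obtain ⟨v, φ, hvφ⟩ := ih hl.1
    obtain ⟨_, ⟨k, rfl⟩, hka, hkx⟩ := hl.exists_conj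
    obtain ⟨hroot, ⟨hv, hva⟩, hφ⟩ := hvφ
    set s' := b.2 a.1 with hs'
    set t := -a.2 b.1 with ht
    have hs0 : s' ≠ 0 := hl.2.2.2
    have ht0 : t ≠ 0 := neg_ne_zero.mpr hl.2.2.1
    have hkv : k.1 v ∈ centSpan K := C.maps_centSpan k.2 hv
    have hin := ((hroot.2.2.conj k.2).smul t⁻¹).smul_left s'⁻¹
    refine ⟨s'⁻¹ • k.1 v, t⁻¹ • (φ ∘ₗ k.1.symm.toLinearMap), ⟨?_, ?_, hin⟩,
      ⟨Submodule.smul_mem _ _ hkv, ?_⟩, ?_⟩
    · exact smul_ne_zero (inv_ne_zero hs0) fun h => hroot.1 (k.1.map_eq_zero_iff.mp h)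
    · refine smul_ne_zero (inv_ne_zero ht0) fun h => hroot.2.1 (LinearMap.ext fun x => ?_)
      simpa using congrArg (fun f : Dual (ZMod p) V => f (k.1 x)) h
    · rw [show (⟨s'⁻¹ • k.1 v, Submodule.smul_mem _ _ hkv⟩ : centSpan K) = s'⁻¹ • ⟨k.1 v, hkv⟩ from rfl,
        map_smul, ← m.comm k ⟨v, hv⟩ ⟨k.1 v, hkv⟩ rfl, hva, hka, smul_smul, inv_mul_cancel₀ hs0,
        one_smul]
    · intro u
      have hu' : k.1.symm u.1 ∈ centSpan K := C.maps_centSpan (inv_mem k.2) u.2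
      have h1 := hkx (m.π ⟨k.1.symm u.1, hu'⟩)
      rw [m.comm k ⟨_, hu'⟩ u (k.1.apply_symm_apply u.1), hφ] at h1
      rw [LinearMap.smul_apply, LinearMap.comp_apply, LinearEquiv.coe_coe, h1, smul_eq_mul,
        ← mul_assoc, inv_mul_cancel₀ ht0, one_mul]

/-- Two lifts of one point have one centre. -/
theorem lift_unique_dep {v₁ v₂ : V} {φ₁ φ₂ : Dual (ZMod p) V} (h1 : (v₁, φ₁) ∈ Root K)
    (h2 : (v₂, φ₂) ∈ Root K) (hW : v₁ - v₂ ∈ comKer K) {c : ZMod p}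
    (hc : ∀ u ∈ centSpan K, φ₁ u = c * φ₂ u) : v₁ = v₂ := by
  obtain ⟨-, g, hg, hgx⟩ := h1.2.2
  obtain ⟨-, k, hk, hkx⟩ := h2.2.2.smul c
  have he : g = k := C.faith hg hk fun u hu => by
    rw [hgx, hkx, LinearMap.smul_apply, smul_eq_mul, ← hc u hu, add_sub_add_left_eq_sub, ← smul_sub]
    exact Submodule.smul_mem _ _ hW
  obtain ⟨x, hx, hne⟩ := (C.exists_ne_zero h1).2
  have := hgx x
  rw [he, hkx, add_right_inj, LinearMap.smul_apply, smul_eq_mul, ← hc x hx] at this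
  exact (smul_right_injective V hne this).symm

theorem lift_unique {v₁ v₂ : V} {φ₁ φ₂ : Dual (ZMod p) V} {x : M} {ψ₁ ψ₂ : Dual (ZMod p) M}
    (h1 : Lift m v₁ φ₁ x ψ₁) (h2 : Lift m v₂ φ₂ x ψ₂) : v₁ = v₂ := by
  obtain ⟨r1, ⟨hv1, e1⟩, p1⟩ := h1
  obtain ⟨r2, ⟨hv2, e2⟩, p2⟩ := h2
  have hW : v₁ - v₂ ∈ comKer K := (pi_eq m).mp (e1.trans e2.symm)
  by_cases hdep : ∃ c : ZMod p, ∀ u ∈ centSpan K, φ₁ u = c * φ₂ u
  · obtain ⟨c, hc⟩ := hdep
    exact C.lift_unique_dep r1 r2 hW hc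
  push Not at hdep
  -- points of the span separating the two functionals
  obtain ⟨z, hz, hz1, hz2⟩ : ∃ z ∈ centSpan K, φ₁ z = 1 ∧ φ₂ z = 0 := by
    obtain ⟨y, hy, hy2⟩ := (C.exists_ne_zero r2).2
    obtain ⟨u, hu, hune⟩ := hdep (φ₁ y * (φ₂ y)⁻¹)
    have hd : φ₁ (u - (φ₂ u * (φ₂ y)⁻¹) • y) ≠ 0 := by
      simp only [map_sub, map_smul, smul_eq_mul]
      exact fun h => hune (by linear_combination h)
    refine ⟨(φ₁ (u - (φ₂ u * (φ₂ y)⁻¹) • y))⁻¹ • (u - (φ₂ u * (φ₂ y)⁻¹) • y),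
      Submodule.smul_mem _ _ (sub_mem hu (Submodule.smul_mem _ _ hy)), ?_, ?_⟩
    · rw [map_smul, smul_eq_mul, inv_mul_cancel₀ hd]
    · simp [hy2]
  obtain ⟨z', hz', hz'2, hz'1⟩ : ∃ z ∈ centSpan K, φ₂ z = 1 ∧ φ₁ z = 0 := by
    obtain ⟨y, hy, hy2⟩ := (C.exists_ne_zero r2).2
    exact ⟨(φ₂ y)⁻¹ • y - ((φ₂ y)⁻¹ * φ₁ y) • z,
      sub_mem (Submodule.smul_mem _ _ hy) (Submodule.smul_mem _ _ hz), by simp [hz2, hy2],
      by simp [hz1]⟩
  have hs : (x, ψ₁ + ψ₂) ∈ Root m.ρ.range := by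
    refine ⟨(C.lift_root m ⟨r1, ⟨hv1, e1⟩, p1⟩).1, fun h => ?_,
      (C.lift_root m ⟨r1, ⟨hv1, e1⟩, p1⟩).2.2.add (C.lift_root m ⟨r2, ⟨hv2, e2⟩, p2⟩).2.2⟩
    have := congrArg (fun f : Dual (ZMod p) M => f (m.π ⟨z, hz⟩)) h
    simp [p1, p2, hz1, hz2] at this
  obtain ⟨v₃, φ₃, r3, ⟨hv3, e3⟩, p3⟩ := C.exists_lift m hs
  obtain ⟨-, g₁, hg₁, hg₁x⟩ := r1.2.2
  obtain ⟨-, g₂, hg₂, hg₂x⟩ := r2.2.2
  obtain ⟨-, g₃, hg₃, hg₃x⟩ := r3.2.2
  have h12 : φ₁ v₂ = 0 := by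
    have := mem_comKer.mp hW _ r1
    rw [map_sub, r1.2.2.1, zero_sub, neg_eq_zero] at this
    exact this
  have h3 : ∀ y, φ₁ y • v₁ + φ₂ y • v₂ = φ₃ y • v₃ := by
    have he : g₁ * g₂ = g₃ := C.faith (mul_mem hg₁ hg₂) hg₃ fun u hu => by
      have hsum : φ₃ u = φ₁ u + φ₂ u := by
        rw [← p3 ⟨u, hu⟩, LinearMap.add_apply, p1, p2]
      have d1 : v₁ - v₃ ∈ comKer K := (pi_eq m).mp (e1.trans e3.symm)
      have d2 : v₂ - v₃ ∈ comKer K := (pi_eq m).mp (e2.trans e3.symm)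
      rw [LinearEquiv.mul_apply, hg₂x, hg₁x, hg₃x, hsum, map_add, map_smul, h12, smul_zero, add_zero]
      have hmem := add_mem (Submodule.smul_mem _ (φ₁ u) d1) (Submodule.smul_mem _ (φ₂ u) d2)
      convert hmem using 1
      module
    intro y
    have hy := hg₃x y
    rw [← he, LinearEquiv.mul_apply, hg₂x, hg₁x, map_add, map_smul, h12, smul_zero, add_zero,
      add_assoc, add_right_inj, add_comm] at hy
    exact hy
  have a1 := h3 z
  have a2 := h3 z'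
  rw [hz1, hz2, one_smul, zero_smul, add_zero] at a1
  rw [hz'1, hz'2, one_smul, zero_smul, zero_add] at a2
  have hd : (φ₃ z - φ₃ z') • v₃ ∈ comKer K := by rwa [sub_smul, ← a1, ← a2]
  have heq : φ₃ z - φ₃ z' = 0 := by
    by_contra hne
    have := Submodule.smul_mem _ (φ₃ z - φ₃ z')⁻¹ hd
    rw [smul_smul, inv_mul_cancel₀ hne, one_smul] at this
    exact (C.exists_ne_zero r3).1 this
  rw [a1, a2, sub_eq_zero.mp heq]

end model

/-- The centres meet the common kernel trivially. -/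
theorem inf_eq_bot : centSpan K ⊓ comKer K = ⊥ := by
  classical
  obtain ⟨m⟩ := C.exists_model
  have : Finite ((centSpan K) ⧸ (comKer K).comap (centSpan K).subtype) :=
    Finite.of_surjective _ m.surj
  have I := C.model_irred m
  have hex : ∀ x : (centSpan K) ⧸ (comKer K).comap (centSpan K).subtype,
      ∃ v : V, (x = 0 → v = 0) ∧ (x ≠ 0 → ∃ φ ψ, Lift m v φ x ψ) := by
    intro x
    by_cases hx : x = 0
    · exact ⟨0, fun _ => rfl, fun h => absurd hx h⟩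
    · obtain ⟨ψ, hr⟩ := I.cent_all hx
      obtain ⟨v, φ, h⟩ := C.exists_lift m hr
      exact ⟨v, fun h => absurd h hx, fun _ => ⟨φ, ψ, h⟩⟩
  choose σ hσ0 hσ using hex
  have huniq : ∀ {v φ x ψ}, Lift m v φ x ψ → x ≠ 0 → σ x = v := by
    intro v φ x ψ h hx
    obtain ⟨φ', ψ', h'⟩ := hσ x hx
    exact C.lift_unique m h' h
  have hsmul : ∀ (c : ZMod p) x, σ (c • x) = c • σ x := by
    intro c x
    by_cases hc : c = 0
    · rw [hc, zero_smul, zero_smul, hσ0 0 rfl]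
    by_cases hx : x = 0
    · rw [hx, smul_zero, hσ0 0 rfl, smul_zero]
    obtain ⟨φ, ψ, hr, ⟨hv, he⟩, hψ⟩ := hσ x hx
    refine huniq (φ := φ) (ψ := ψ) ⟨⟨smul_ne_zero hc hr.1, hr.2.1, hr.2.2.smul_left c⟩,
      ⟨Submodule.smul_mem _ _ hv, ?_⟩, hψ⟩ (smul_ne_zero hc hx)
    rw [show (⟨c • σ x, Submodule.smul_mem _ _ hv⟩ : centSpan K) = c • ⟨σ x, hv⟩ from rfl, map_smul, he]
  have hstep : ∀ v w, Sees m.ρ.range v w → Cent m.ρ.range v → Cent m.ρ.range w →
      ∀ c : ZMod p, σ (w + c • v) = σ w + c • σ v := by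
    intro v w hsee hv hw c
    obtain ⟨α, hα, hαw⟩ := hsee
    obtain ⟨v', φ', hl⟩ := C.exists_lift m (s := (v, α))
      ⟨hv.ne_zero, fun h => hαw (by rw [show α = 0 from h]; rfl), hα⟩
    have hv' : σ v = v' := huniq hl hv.ne_zero
    obtain ⟨φw, ψw, hrw, ⟨hwU, hwe⟩, hψw⟩ := hσ w hw.ne_zero
    obtain ⟨hr', ⟨hvU, hve⟩, hφ'⟩ := hl
    have hval : φ' (σ w) = α w := by rw [← hφ' ⟨σ w, hwU⟩, hwe]
    have h1 := hrw.2.2.conjTrans (hr'.2.2.smul (c * (α w)⁻¹))
    rw [LinearMap.smul_apply, smul_eq_mul, hval, mul_assoc, inv_mul_cancel₀ hαw, mul_one] at h1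
    have hne : w + c • v ≠ 0 := fun h => hαw (by
      have := congrArg α h
      simpa [hα.1] using this)
    obtain ⟨ψn, hψn⟩ := C.exists_bar m (φ := φw - φw v' • (c * (α w)⁻¹) • φ') fun y hy => by
      simp [mem_comKer.mp hy _ hrw, mem_comKer.mp hy _ hr']
    have hπ : m.π ⟨σ w + c • v', add_mem hwU (Submodule.smul_mem _ _ hvU)⟩ = w + c • v := by
      rw [show (⟨σ w + c • v', add_mem hwU (Submodule.smul_mem _ _ hvU)⟩ : centSpan K) =
        ⟨σ w, hwU⟩ + c • ⟨v', hvU⟩ from rfl, map_add, map_smul, hwe, hve]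
    rw [hv']
    refine huniq (φ := φw - φw v' • (c * (α w)⁻¹) • φ') (ψ := ψn)
      ⟨⟨fun h => hne ?_, fun h => ?_, h1⟩, ⟨_, hπ⟩, hψn⟩ hne
    · rw [← hπ, ← map_zero m.π]
      exact congrArg m.π (Subtype.ext h)
    · have hz : (φw - φw v' • (c * (α w)⁻¹) • φ') = 0 := h
      by_cases hc' : φw v' = 0
      · rw [hc', zero_smul, sub_zero] at hz
        exact hrw.2.1 hz
      · have := congrArg (fun f : Dual (ZMod p) V => f v') hz
        simp [hr'.2.2.1] at this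
        exact hc' this
  have hadd : ∀ a b, σ (a + b) = σ a + σ b := by
    intro a b
    by_cases ha : a = 0
    · rw [ha, zero_add, hσ0 0 rfl, zero_add]
    by_cases hb : b = 0
    · rw [hb, add_zero, hσ0 0 rfl, add_zero]
    exact I.add_of_step σ hsmul hstep (I.cent_all ha) (I.cent_all hb)
  rw [eq_bot_iff]
  rintro u ⟨hu, hw⟩
  have key : σ (m.π ⟨u, hu⟩) = u := by
    refine Submodule.span_induction (p := fun u hu => σ (m.π ⟨u, hu⟩) = u) ?_ ?_ ?_ ?_ hu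
    · rintro v ⟨φ, hq⟩
      obtain ⟨ψ, hψ, hr⟩ := C.image_root m hq
      exact huniq hψ hr.1
    · exact (show σ (m.π (0 : centSpan K)) = 0 by rw [map_zero, hσ0 0 rfl])
    · intro a b ha hb h1 h2
      exact (show σ (m.π (⟨a, ha⟩ + ⟨b, hb⟩ : centSpan K)) = _ by rw [map_add, hadd, h1, h2])
    · intro c a ha h1
      exact (show σ (m.π (c • ⟨a, ha⟩ : centSpan K)) = _ by rw [map_smul, hsmul, h1])
  rw [Submodule.mem_bot, ← key, (m.ker ⟨u, hu⟩).mpr hw, hσ0 0 rfl]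

end Comp

end Cfsg.Agent.TransGroups
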