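import Cfsg.Agent.TransGroups.Pairs

/-!
# Irreducible transvection groups over a prime field of odd order: every point is a centre

In an irreducible configuration non-perpendicularity is symmetric, every non-zero vector is a
centre, and the functionals at a centre are either one line or the whole annihilator of the centre.
-/

set_option autoImplicit false

open Module Relation

namespace Cfsg.Agent.TransGroups

variable {p : ℕ} {V : Type*} [AddCommGroup V] [Module (ZMod p) V]
  {H : Subgroup (V ≃ₗ[ZMod p] V)}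

/-- An irreducible configuration: centres span, kernels meet trivially, all pairs are joined. -/
structure Irred (H : Subgroup (V ≃ₗ[ZMod p] V)) : Prop where
  two : (2 : ZMod p) ≠ 0
  span : Submodule.span (ZMod p) {v : V | ∃ φ, (v, φ) ∈ Root H} = ⊤
  kernel : ∀ x : V, x ≠ 0 → ∃ q ∈ Root H, q.2 x ≠ 0
  joined : ∀ q ∈ Root H, ∀ r ∈ Root H, ReflTransGen (Link H) q r

/-- The functionals at v. -/
def funcs [Fact p.Prime] (H : Subgroup (V ≃ₗ[ZMod p] V)) (v : V) :
    Submodule (ZMod p) (Dual (ZMod p) V) where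
  carrier := {φ | In H v φ}
  add_mem' := In.add
  zero_mem' := In.zero H v
  smul_mem' := fun c _ h => h.smul c

/-- v is a centre. -/
def Cent (H : Subgroup (V ≃ₗ[ZMod p] V)) (v : V) : Prop := ∃ φ, (v, φ) ∈ Root H

/-- Some transvection with centre v moves x. -/
def Sees (H : Subgroup (V ≃ₗ[ZMod p] V)) (v x : V) : Prop := ∃ φ, In H v φ ∧ φ x ≠ 0

variable [Fact p.Prime]

omit [Fact p.Prime] in
theorem Sees.cent {v x : V} (h : Sees H v x) (hv : v ≠ 0) : Cent H v := by
  obtain ⟨φ, h1, h2⟩ := h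
  exact ⟨φ, hv, fun he => h2 (by rw [show φ = 0 from he]; rfl), h1⟩

omit [Fact p.Prime] in
theorem Cent.ne_zero {v : V} (h : Cent H v) : v ≠ 0 := h.elim fun _ h => h.1

theorem mem_funcs {v : V} {φ : Dual (ZMod p) V} : φ ∈ funcs H v ↔ In H v φ := Iff.rfl

theorem funcs_smul {v : V} {c : ZMod p} (hc : c ≠ 0) : funcs H (c • v) = funcs H v := by
  ext φ
  refine ⟨fun h => ?_, fun h => h.smul_left c⟩
  have := h.smul_left c⁻¹
  rwa [smul_smul, inv_mul_cancel₀ hc, one_smul] at this

theorem cent_smul {v : V} {c : ZMod p} (hc : c ≠ 0) (h : Cent H v) : Cent H (c • v) :=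
  let ⟨φ, hv, hφ, hin⟩ := h
  ⟨φ, smul_ne_zero hc hv, hφ, hin.smul_left c⟩

/-- Opposite pairs are conjugate up to scalars. -/
theorem Link.exists_conj {q r : V × Dual (ZMod p) V} (h : Link H q r) :
    ∃ g ∈ H, g q.1 = r.2 q.1 • r.1 ∧ ∀ x, q.2 x = -q.2 r.1 * r.2 (g x) := by
  obtain ⟨v, φ⟩ := q
  obtain ⟨w, ψ⟩ := r
  obtain ⟨⟨-, -, hq⟩, ⟨-, -, hr⟩, h1, h2⟩ := h
  dsimp only at h1 h2 hq hr ⊢
  obtain ⟨hw, tw, htw, hwx⟩ := hr
  obtain ⟨-, tv, htv, hvx⟩ := hq.smul (-(ψ v * φ w)⁻¹)
  have hne : ψ v * φ w ≠ 0 := mul_ne_zero h2 h1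
  have hcalc : ∀ x, (tv * tw) x = x + ψ x • w + (-(ψ v * φ w)⁻¹ * (φ x + ψ x * φ w)) • v := by
    intro x
    rw [LinearEquiv.mul_apply, hwx, hvx]
    simp
  refine ⟨tv * tw, mul_mem htv htw, ?_, fun x => ?_⟩
  · rw [hcalc, hq.1, zero_add, neg_mul, inv_mul_cancel₀ hne, neg_one_smul]
    abel
  · rw [hcalc, map_add, map_add, map_smul, map_smul, smul_eq_mul, smul_eq_mul, hw, mul_zero,
      add_zero]
    field_simp
    ring

omit [Fact p.Prime] in
theorem funcs_map [Fact p.Prime] {g : V ≃ₗ[ZMod p] V} (hg : g ∈ H) (v : V) :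
    funcs H (g v) = (funcs H v).map (g.symm.dualMap : Dual (ZMod p) V →ₗ[ZMod p] Dual (ZMod p) V) := by
  ext φ
  rw [Submodule.mem_map]
  constructor
  · intro h
    refine ⟨φ ∘ₗ g.toLinearMap, ?_, ?_⟩
    · have := In.conj h (inv_mem hg)
      rwa [show g⁻¹ (g v) = v from g.symm_apply_apply v] at this
    · ext x
      exact congrArg φ (g.apply_symm_apply x)
  · rintro ⟨θ, hθ, rfl⟩
    exact In.conj hθ hg

namespace Irred

variable [Finite V] (I : Irred H)
include I

omit [Finite V] I in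
theorem finrank_reach {q r : V × Dual (ZMod p) V} (h : ReflTransGen (Link H) q r) :
    finrank (ZMod p) (funcs H q.1) = finrank (ZMod p) (funcs H r.1) := by
  induction h with
  | refl => rfl
  | tail _ h ih =>
    obtain ⟨g, hg, hgq, -⟩ := h.exists_conj
    rename_i b c _
    have e : funcs H c.1 = funcs H (c.2 b.1 • c.1) := (funcs_smul h.2.2.2).symm
    rw [ih, e, ← hgq, funcs_map hg]
    exact (LinearEquiv.finrank_map_eq g.symm.dualMap _).symm

theorem finrank_funcs {v w : V} (hv : Cent H v) (hw : Cent H w) :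
    finrank (ZMod p) (funcs H v) = finrank (ZMod p) (funcs H w) := by
  obtain ⟨φ, hq⟩ := hv
  obtain ⟨ψ, hr⟩ := hw
  exact finrank_reach (I.joined _ hq _ hr)

/-- Perpendicularity is symmetric. -/
theorem sees_symm {v x : V} (h : Sees H v x) (hv : Cent H v) (hx : Cent H x) : Sees H x v := by
  by_contra hno
  simp only [Sees, not_exists, not_and, not_not] at hno
  obtain ⟨φ, hφ, hne⟩ := h
  have hle : funcs H x ≤ funcs H v := fun ψ hψ => hφ.comm_unit hψ (hno ψ hψ) hne
  have heq := Submodule.eq_of_le_of_finrank_eq hle (I.finrank_funcs hx hv)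
  exact hne (mem_funcs.mp (heq ▸ hφ : φ ∈ funcs H x)).1

/-- The centres on the line of two non-perpendicular centres. -/
theorem cent_step {v w : V} (h : Sees H v w) (hv : Cent H v) (hw : Cent H w) (c : ZMod p) :
    Cent H (w + c • v) := by
  obtain ⟨φ, hφ, hne⟩ := h
  obtain ⟨ψ, hψ, hψv⟩ := I.sees_symm ⟨φ, hφ, hne⟩ hv hw
  have h1 := hψ.conjTrans (hφ.smul (c * (φ w)⁻¹))
  rw [LinearMap.smul_apply, smul_eq_mul, mul_assoc, inv_mul_cancel₀ hne, mul_one] at h1
  refine ⟨_, fun he => ?_, fun he => hψv ?_, h1⟩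
  · have := congrArg φ he
    simp [hφ.1] at this
    exact hne this
  · have := congrArg (fun f : Dual (ZMod p) V => f v) he
    simpa [hφ.1] using this

omit [Finite V] in
/-- A scalar avoiding two forbidden values. -/
theorem pick {a b a' b' : ZMod p} (h : a ≠ 0 ∨ b ≠ 0) (h' : a' ≠ 0 ∨ b' ≠ 0) :
    ∃ s : ZMod p, a + s * b ≠ 0 ∧ a' + s * b' ≠ 0 := by
  have hone : ∀ a b : ZMod p, (a ≠ 0 ∨ b ≠ 0) → ∀ s t : ZMod p,
      a + s * b = 0 → a + t * b = 0 → s = t := by
    intro a b h s t hs ht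
    have hb : b ≠ 0 := fun hb => by simp [hb] at hs h; exact h hs
    exact mul_right_cancel₀ hb (add_left_cancel (hs.trans ht.symm))
  have h2 := I.two
  have d1 : (0 : ZMod p) ≠ 1 := zero_ne_one
  have d2 : (0 : ZMod p) ≠ -1 := (neg_ne_zero.mpr one_ne_zero).symm
  have d3 : (1 : ZMod p) ≠ -1 := fun he => h2 (by linear_combination he)
  by_contra hcon
  push Not at hcon
  have c0 := hcon 0
  have c1 := hcon 1
  have c2 := hcon (-1)
  by_cases e0 : a + 0 * b = 0 <;> by_cases e1 : a + 1 * b = 0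
  · exact d1 (hone a b h _ _ e0 e1)
  · by_cases e2 : a + -1 * b = 0
    · exact d2 (hone a b h _ _ e0 e2)
    · exact d3 (hone a' b' h' _ _ (c1 e1) (c2 e2))
  · by_cases e2 : a + -1 * b = 0
    · exact d3 (hone a b h _ _ e1 e2)
    · exact d2 (hone a' b' h' _ _ (c0 e0) (c2 e2))
  · exact d1 (hone a' b' h' _ _ (c0 e0) (c1 e1))

theorem exists_sees {v : V} (hv : Cent H v) : ∃ u, Cent H u ∧ Sees H v u ∧ Sees H u v := by
  obtain ⟨⟨u, ξ⟩, hu, hne⟩ := I.kernel v hv.ne_zero
  exact ⟨u, ⟨ξ, hu⟩, I.sees_symm ⟨ξ, hu.2.2, hne⟩ ⟨ξ, hu⟩ hv, ξ, hu.2.2, hne⟩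

/-- Any two centres see a common centre. -/
theorem common {v w : V} (hv : Cent H v) (hw : Cent H w) :
    ∃ x, Cent H x ∧ Sees H v x ∧ Sees H w x := by
  obtain ⟨φ, hq⟩ := hv
  obtain ⟨ψ, hr⟩ := hw
  suffices key : ∀ r, ReflTransGen (Link H) (v, φ) r → ∃ x, Cent H x ∧ Sees H v x ∧ Sees H r.1 x from
    key _ (I.joined _ hq _ hr)
  intro r h
  induction h with
  | refl =>
    obtain ⟨u, hu, h1, -⟩ := I.exists_sees ⟨φ, hq⟩
    exact ⟨u, hu, h1, h1⟩
  | @tail r s _ hl ih =>
    obtain ⟨x, hx, hvx, hrx⟩ := ih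
    have hrC : Cent H r.1 := ⟨r.2, hl.1⟩
    obtain ⟨θ, hθ, hθx⟩ := hvx
    have hsr : s.2 r.1 ≠ 0 := hl.2.2.2
    obtain ⟨t, ht1, ht2⟩ := I.pick (a := θ x) (b := θ r.1) (a' := s.2 x) (b' := s.2 r.1)
      (.inl hθx) (.inr hsr)
    refine ⟨x + t • r.1, I.cent_step hrx hrC hx t, ⟨θ, hθ, ?_⟩, ⟨s.2, hl.2.1.2.2, ?_⟩⟩
    · simpa using ht1
    · simpa using ht2

/-- A centre seen by a and b that moves r. -/
theorem triple {a b r : V} (ha : Cent H a) (hb : Cent H b) (hr : r ≠ 0) :
    ∃ w, Cent H w ∧ Sees H a w ∧ Sees H b w ∧ Sees H w r := by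
  obtain ⟨x, hx, hax, hbx⟩ := I.common ha hb
  by_cases hxr : Sees H x r
  · exact ⟨x, hx, hax, hbx, hxr⟩
  simp only [Sees, not_exists, not_and, not_not] at hxr
  obtain ⟨⟨u, ξ⟩, hu, hξr⟩ := I.kernel r hr
  dsimp only at hξr
  -- conjugating by a centre fixing r keeps r moved
  have hkeep : ∀ {u z : V} {ξ : Dual (ZMod p) V}, In H u ξ → ξ r ≠ 0 → Cent H z → Sees H z u →
      (∀ η, In H z η → η r = 0) → ∀ s : ZMod p, Cent H (u + s • z) ∧ Sees H (u + s • z) r := by
    intro u z ξ hξ hne hz hzu hzr s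
    obtain ⟨η, hη, hηu⟩ := hzu
    have h1 := hξ.conjTrans (hη.smul (s * (η u)⁻¹))
    rw [LinearMap.smul_apply, smul_eq_mul, mul_assoc, inv_mul_cancel₀ hηu, mul_one] at h1
    have hsee : Sees H (u + s • z) r := ⟨_, h1, by simpa [hzr η hη] using hne⟩
    refine ⟨hsee.cent fun he => hηu ?_, hsee⟩
    have := congrArg η he
    simpa [hη.1] using this
  obtain ⟨u', hu', hu'r, hxu'⟩ : ∃ u', Cent H u' ∧ Sees H u' r ∧ Sees H x u' := by
    by_cases hxu : Sees H x u
    · exact ⟨u, ⟨ξ, hu⟩, ⟨ξ, hu.2.2, hξr⟩, hxu⟩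
    simp only [Sees, not_exists, not_and, not_not] at hxu
    obtain ⟨y, hy, hxy, huy⟩ := I.common hx ⟨ξ, hu⟩
    by_cases hyr : Sees H y r
    · exact ⟨y, hy, hyr, hxy⟩
    simp only [Sees, not_exists, not_and, not_not] at hyr
    obtain ⟨h1, h2⟩ := hkeep hu.2.2 hξr hy (I.sees_symm huy ⟨ξ, hu⟩ hy) hyr 1
    obtain ⟨η, hη, hηy⟩ := hxy
    exact ⟨_, h1, h2, η, hη, by simpa [hxu η hη] using hηy⟩
  obtain ⟨ξ', hξ', hξ'r⟩ := hu'r
  obtain ⟨α, hα, hαx⟩ := hax
  obtain ⟨β, hβ, hβx⟩ := hbx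
  obtain ⟨s, hs1, hs2⟩ := I.pick (a := α u') (b := α x) (a' := β u') (b' := β x) (.inr hαx) (.inr hβx)
  obtain ⟨h1, h2⟩ := hkeep hξ' hξ'r hx hxu' hxr s
  exact ⟨_, h1, ⟨α, hα, by simpa using hs1⟩, ⟨β, hβ, by simpa using hs2⟩, h2⟩

theorem cent_add {a b : V} (ha : Cent H a) (hb : Cent H b) (hr : a + b ≠ 0) : Cent H (a + b) := by
  by_cases hab : Sees H a b
  · have := I.cent_step hab ha hb 1
    rwa [one_smul, add_comm] at this
  simp only [Sees, not_exists, not_and, not_not] at hab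
  obtain ⟨w, hw, haw, ⟨β, hβ, hβw⟩, ξ, hξ, hξr⟩ := I.triple ha hb hr
  have h1 : Cent H (a + (1 : ZMod p) • w) := I.cent_step (I.sees_symm haw ha hw) hw ha 1
  rw [one_smul] at h1
  have hba : β a = 0 := by
    by_contra hne
    obtain ⟨α, hα, hαb⟩ := I.sees_symm ⟨β, hβ, hne⟩ hb ha
    exact hαb (hab α hα)
  have h2 := I.cent_step ⟨β, hβ, show β (a + w) ≠ 0 by simpa [hba] using hβw⟩ hb h1 1
  rw [one_smul] at h2
  have h3 := I.cent_step ⟨ξ, hξ, show ξ (a + w + b) ≠ 0 by
    have : ξ (a + w + b) = ξ (a + b) := by simp [hξ.1]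
    rw [this]; exact hξr⟩ hw h2 (-1)
  rwa [neg_one_smul, show a + w + b + -w = a + b by abel] at h3

/-- A homogeneous map that is additive along non-perpendicular centres is additive. -/
theorem add_of_step {X : Type*} [AddCommGroup X] [Module (ZMod p) X] (f : V → X)
    (hsmul : ∀ (c : ZMod p) v, f (c • v) = c • f v)
    (hstep : ∀ v w : V, Sees H v w → Cent H v → Cent H w → ∀ c : ZMod p, f (w + c • v) = f w + c • f v)
    {a b : V} (ha : Cent H a) (hb : Cent H b) : f (a + b) = f a + f b := by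
  by_cases hr : a + b = 0
  · have : b = (-1 : ZMod p) • a := by rw [neg_one_smul]; exact eq_neg_of_add_eq_zero_right hr
    rw [hr, this, hsmul, neg_one_smul, add_neg_cancel, ← zero_smul (ZMod p) (0 : V), hsmul, zero_smul]
  by_cases hab : Sees H a b
  · have := hstep a b hab ha hb 1
    rwa [one_smul, one_smul, add_comm b a, add_comm (f b)] at this
  simp only [Sees, not_exists, not_and, not_not] at hab
  obtain ⟨w, hw, haw, ⟨β, hβ, hβw⟩, ξ, hξ, hξr⟩ := I.triple ha hb hr
  have hwa := I.sees_symm haw ha hw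
  have h1 : Cent H (a + (1 : ZMod p) • w) := I.cent_step hwa hw ha 1
  have e1 := hstep w a hwa hw ha 1
  rw [one_smul] at h1 e1
  have hba : β a = 0 := by
    by_contra hne
    obtain ⟨α, hα, hαb⟩ := I.sees_symm ⟨β, hβ, hne⟩ hb ha
    exact hαb (hab α hα)
  have s2 : Sees H b (a + w) := ⟨β, hβ, show β (a + w) ≠ 0 by simpa [hba] using hβw⟩
  have h2 := I.cent_step s2 hb h1 1
  have e2 := hstep b (a + w) s2 hb h1 1
  rw [one_smul] at h2 e2
  have s3 : Sees H w (a + w + b) := ⟨ξ, hξ, show ξ (a + w + b) ≠ 0 by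
    have : ξ (a + w + b) = ξ (a + b) := by simp [hξ.1]
    rw [this]; exact hξr⟩
  have e3 := hstep w (a + w + b) s3 hw h2 (-1)
  rw [neg_one_smul, show a + w + b + -w = a + b by abel, e2, e1, neg_one_smul, one_smul, one_smul] at e3
  rw [e3]
  abel

/-- Every non-zero vector is a centre. -/
theorem cent_all {v : V} (hv : v ≠ 0) : Cent H v := by
  let S : Submodule (ZMod p) V :=
    { carrier := {x | x = 0 ∨ Cent H x}
      zero_mem' := .inl rfl
      add_mem' := by
        intro a b ha hb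
        by_cases h : a + b = 0
        · exact .inl h
        rcases ha with rfl | ha
        · rwa [zero_add]
        rcases hb with rfl | hb
        · rw [add_zero]; exact .inr ha
        exact .inr (I.cent_add ha hb h)
      smul_mem' := by
        intro c x hx
        by_cases hc : c = 0
        · exact .inl (by rw [hc, zero_smul])
        rcases hx with rfl | hx
        · exact .inl (smul_zero c)
        · exact .inr (cent_smul hc hx) }
  have hle : (⊤ : Submodule (ZMod p) V) ≤ S :=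
    I.span ▸ Submodule.span_le.mpr fun x hx => .inr hx
  exact (hle (Submodule.mem_top (x := v))).resolve_left hv

theorem symm' {v x : V} (h : Sees H v x) (hv : v ≠ 0) : Sees H x v :=
  I.sees_symm h (I.cent_all hv) (I.cent_all (by
    rintro rfl
    obtain ⟨φ, -, hne⟩ := h
    exact hne (map_zero φ)))

/-- The points seen by neither of two points do not cover a spanning set. -/
theorem span_seen {v x : V} (hv : v ≠ 0) (hx : x ≠ 0) :
    Submodule.span (ZMod p) {w : V | Sees H v w ∧ Sees H x w} = ⊤ := by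
  obtain ⟨w, -, ⟨α, hα, hαw⟩, β, hβ, hβw⟩ := I.common (I.cent_all hv) (I.cent_all hx)
  rw [eq_top_iff]
  rintro z -
  obtain ⟨s, hs1, hs2⟩ := I.pick (a := α z) (b := α w) (a' := β z) (b' := β w) (.inr hαw) (.inr hβw)
  have h1 : z + s • w ∈ {w : V | Sees H v w ∧ Sees H x w} :=
    ⟨⟨α, hα, by simpa using hs1⟩, β, hβ, by simpa using hs2⟩
  have hw : w ∈ {w : V | Sees H v w ∧ Sees H x w} := ⟨⟨α, hα, hαw⟩, β, hβ, hβw⟩
  have := sub_mem (Submodule.subset_span h1)
    (Submodule.smul_mem (Submodule.span (ZMod p) {w : V | Sees H v w ∧ Sees H x w}) s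
      (Submodule.subset_span hw))
  rwa [add_sub_cancel_right] at this

/-- The functionals of v killing a point seen from v act at that point. -/
theorem funcs_shift {v w : V} (hv : v ≠ 0) (h : Sees H v w) {η : Dual (ZMod p) V}
    (hη : In H v η) (hηw : η w = 0) : In H w η := by
  obtain ⟨φ, hφ, hne⟩ := h
  obtain ⟨ξ, hξ, hξv⟩ := I.symm' ⟨φ, hφ, hne⟩ hv
  have h1 := hη.conjTrans hξ
  rw [hηw, zero_smul, sub_zero] at h1
  have h2 := h1.conjTrans (hφ.smul (-(ξ v * φ w)⁻¹))
  rw [hη.1, zero_smul, sub_zero] at h2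
  have e : v + ξ v • w + ((-(ξ v * φ w)⁻¹) • φ) (v + ξ v • w) • v = ξ v • w := by
    have hne' : ξ v * φ w ≠ 0 := mul_ne_zero hξv hne
    rw [LinearMap.smul_apply, map_add, map_smul, hφ.1, zero_add, smul_eq_mul, smul_eq_mul, neg_mul,
      inv_mul_cancel₀ hne', neg_one_smul]
    abel
  rw [e] at h2
  have := h2.smul_left (ξ v)⁻¹
  rwa [smul_smul, inv_mul_cancel₀ hξv, one_smul] at this

/-- Either the functionals at each centre form one line or they are all functionals killing it. -/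
theorem dichotomy :
    (∀ v : V, v ≠ 0 → finrank (ZMod p) (funcs H v) = 1) ∨
      ∀ (v : V) (φ : Dual (ZMod p) V), φ v = 0 → In H v φ := by
  by_cases hbad : ∀ v : V, v ≠ 0 → ∀ x : V, x ≠ 0 → ¬ Sees H v x → funcs H x = funcs H v
  swap
  · left
    push Not at hbad
    obtain ⟨v, hv, x, hx, hvx, hne⟩ := hbad
    set J := funcs H v ⊓ funcs H x with hJ
    have hJle : ∀ w, Sees H v w → Sees H x w → ∀ η ∈ funcs H v, η w = 0 → η ∈ J := by
      intro w hvw hxw η hη hw
      refine ⟨hη, I.funcs_shift (by rintro rfl; exact hvw.elim fun θ h => h.2 (map_zero θ))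
        (I.symm' hxw hx) (I.funcs_shift hv hvw hη hw) ?_⟩
      by_contra h
      exact hvx ⟨η, hη, h⟩
    have hJkill : ∀ η ∈ J, ∀ w, Sees H v w → Sees H x w → η w = 0 := by
      intro η hη w hvw hxw
      by_contra hw
      have hsub : funcs H v ≤ J := fun θ hθ => by
        have h1 := hJle w hvw hxw (θ - (θ w * (η w)⁻¹) • η)
          (sub_mem hθ ((funcs H v).smul_mem _ hη.1)) (by simp [hw])
        have h2 := J.add_mem h1 (J.smul_mem (θ w * (η w)⁻¹) hη)
        rwa [sub_add_cancel] at h2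
      exact hne (Submodule.eq_of_le_of_finrank_eq (hsub.trans inf_le_right)
        (I.finrank_funcs (I.cent_all hv) (I.cent_all hx))).symm
    have hJbot : J = ⊥ := by
      rw [eq_bot_iff]
      intro η hη
      rw [Submodule.mem_bot]
      ext z
      have hz : z ∈ Submodule.span (ZMod p) {w : V | Sees H v w ∧ Sees H x w} :=
        (I.span_seen hv hx).symm ▸ Submodule.mem_top
      exact (Submodule.span_le.mpr (fun w hw => hJkill η hη w hw.1 hw.2) :
        _ ≤ LinearMap.ker η) hz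
    have hv1 : finrank (ZMod p) (funcs H v) = 1 := by
      obtain ⟨w, -, ⟨φ, hφ, hne'⟩, hxw⟩ := I.common (I.cent_all hv) (I.cent_all hx)
      refine finrank_eq_one ⟨φ, hφ⟩ (fun he => hne' (by
        have : φ = 0 := congrArg Subtype.val he
        rw [this]; rfl)) fun θ => ⟨θ.1 w * (φ w)⁻¹, ?_⟩
      have h1 := hJle w ⟨φ, hφ, hne'⟩ hxw (θ.1 - (θ.1 w * (φ w)⁻¹) • φ)
        (sub_mem θ.2 ((funcs H v).smul_mem _ hφ)) (by simp [hne'])
      rw [hJbot, Submodule.mem_bot, sub_eq_zero] at h1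
      exact Subtype.ext h1.symm
    exact fun u hu => (I.finrank_funcs (I.cent_all hu) (I.cent_all hv)).trans hv1
  right
  intro v φ hφv
  by_cases hv : v = 0
  · exact ⟨hφv, 1, one_mem H, fun y => by simp [hv]⟩
  set K : V → Submodule (ZMod p) V := fun u => (funcs H u).dualCoannihilator with hK
  have hKmem : ∀ u y, y ∈ K u ↔ ¬ Sees H u y := fun u y => by
    simp only [hK, Submodule.mem_dualCoannihilator, Sees, not_exists, not_and, not_not]
    rfl
  have hKv : K v = Submodule.span (ZMod p) {v} := by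
    refine le_antisymm (fun x hx => ?_) ((Submodule.span_singleton_le_iff_mem _ _).mpr
      ((hKmem v v).mpr fun ⟨θ, hθ, h⟩ => h hθ.1))
    by_contra hxv
    obtain ⟨w, hw, hvw, -⟩ := I.exists_sees (I.cent_all hv)
    have hw0 := hw.ne_zero
    have hdisj : K v ⊓ K w = ⊥ := by
      rw [eq_bot_iff]
      rintro z ⟨hz1, hz2⟩
      rw [Submodule.mem_bot]
      by_contra hz
      have e1 := hbad v hv z hz ((hKmem v z).mp hz1)
      have e2 := hbad w hw0 z hz ((hKmem w z).mp hz2)
      obtain ⟨θ, hθ, hne⟩ := hvw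
      exact hne (mem_funcs.mp ((e2.symm.trans e1).symm ▸ hθ : θ ∈ funcs H w)).1
    set J := funcs H v ⊓ funcs H w with hJ
    have hle : K v ⊔ K w ≤ J.dualCoannihilator :=
      sup_le (Submodule.dualCoannihilator_anti inf_le_left)
        (Submodule.dualCoannihilator_anti inf_le_right)
    have hJcard : finrank (ZMod p) (funcs H v) ≤ finrank (ZMod p) J + 1 := by
      let ev : funcs H v →ₗ[ZMod p] ZMod p := (LinearMap.applyₗ w).comp (funcs H v).subtype
      have h1 := ev.finrank_range_add_finrank_ker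
      have h2 : (LinearMap.ker ev).map (funcs H v).subtype ≤ J := by
        rintro _ ⟨θ, hθ, rfl⟩
        exact ⟨θ.2, I.funcs_shift hv hvw θ.2 hθ⟩
      have h3 := Submodule.finrank_mono h2
      rw [Submodule.finrank_map_subtype_eq] at h3
      have h4 : finrank (ZMod p) (LinearMap.range ev) ≤ 1 :=
        (Submodule.finrank_le _).trans (finrank_self _).le
      omega
    have hd : ∀ W : Submodule (ZMod p) (Dual (ZMod p) V),
        finrank (ZMod p) W + finrank (ZMod p) W.dualCoannihilator = finrank (ZMod p) V :=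
      fun W => Subspace.finrank_add_finrank_dualCoannihilator_eq W
    have h5 := Submodule.finrank_sup_add_finrank_inf_eq (K v) (K w)
    rw [hdisj, finrank_bot, add_zero] at h5
    have h6 := Submodule.finrank_mono hle
    have h7 := hd (funcs H v)
    have h8 := hd (funcs H w)
    have h9 := hd J
    have h10 := I.finrank_funcs (I.cent_all hv) (I.cent_all hw0)
    have h11 : 2 ≤ finrank (ZMod p) (K v) := by
      have hlt : Submodule.span (ZMod p) {v} < K v :=
        lt_of_le_of_ne ((Submodule.span_singleton_le_iff_mem _ _).mpr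
          ((hKmem v v).mpr fun ⟨θ, hθ, h⟩ => h hθ.1)) fun he => hxv (he ▸ hx)
      have := Submodule.finrank_lt_finrank_of_lt hlt
      rw [finrank_span_singleton hv] at this
      omega
    have e1 : (funcs H v).dualCoannihilator = K v := rfl
    have e2 : (funcs H w).dualCoannihilator = K w := rfl
    rw [e1] at h7
    rw [e2] at h8
    omega
  have h1 : φ ∈ (K v).dualAnnihilator := by
    rw [hKv, Submodule.mem_dualAnnihilator]
    intro y hy
    obtain ⟨c, rfl⟩ := Submodule.mem_span_singleton.mp hy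
    simp [hφv]
  rw [Subspace.dualCoannihilator_dualAnnihilator_eq] at h1
  exact h1

end Irred

end Cfsg.Agent.TransGroups
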