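import Cfsg.Agent.Invol.BaerSuzuki
import Cfsg.Agent.Core.PCore
import Mathlib.LinearAlgebra.Dual.Lemmas

/-!
# Transvection pairs inside a linear group over a prime field

A pair (v, φ) with φ v = 0 stands for the transvection x ↦ x + φ x • v. Closure rules, opposite pairs,
and: in a group with no normal p-subgroup every pair has an opposite one, and two pairs whose
transvections do not commute are joined by a chain of opposite pairs.
-/

set_option autoImplicit false

open Module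

namespace Cfsg.Agent.TransGroups

variable {p : ℕ} {V : Type*} [AddCommGroup V] [Module (ZMod p) V]
  {H : Subgroup (V ≃ₗ[ZMod p] V)} {v w : V} {φ ψ : Dual (ZMod p) V}

/-- The transvection of (v, φ) lies in H. -/
def In (H : Subgroup (V ≃ₗ[ZMod p] V)) (v : V) (φ : Dual (ZMod p) V) : Prop :=
  φ v = 0 ∧ ∃ g ∈ H, ∀ x, g x = x + φ x • v

/-- The non-trivial pairs of H. -/
def Root (H : Subgroup (V ≃ₗ[ZMod p] V)) : Set (V × Dual (ZMod p) V) :=
  {q | q.1 ≠ 0 ∧ q.2 ≠ 0 ∧ In H q.1 q.2}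

/-- Opposite pairs. -/
def Opp (q r : V × Dual (ZMod p) V) : Prop := q.2 r.1 ≠ 0 ∧ r.2 q.1 ≠ 0

/-- Adjacency: opposite pairs of H. -/
def Link (H : Subgroup (V ≃ₗ[ZMod p] V)) (q r : V × Dual (ZMod p) V) : Prop :=
  q ∈ Root H ∧ r ∈ Root H ∧ Opp q r

theorem In.zero (H : Subgroup (V ≃ₗ[ZMod p] V)) (v : V) : In H v 0 :=
  ⟨rfl, 1, one_mem H, fun x => by simp⟩

theorem In.mono {K : Subgroup (V ≃ₗ[ZMod p] V)} (h : H ≤ K) (hv : In H v φ) : In K v φ :=
  ⟨hv.1, hv.2.imp fun _ hg => ⟨h hg.1, hg.2⟩⟩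

theorem In.add (h : In H v φ) (h' : In H v ψ) : In H v (φ + ψ) := by
  obtain ⟨hv, g, hg, hgx⟩ := h
  obtain ⟨hv', k, hk, hkx⟩ := h'
  refine ⟨by simp [hv, hv'], g * k, mul_mem hg hk, fun x => ?_⟩
  rw [LinearEquiv.mul_apply, hkx, hgx]
  simp only [map_add, map_smul, hv, smul_zero, add_zero, LinearMap.add_apply, add_smul]
  abel

theorem In.smul [Fact p.Prime] (h : In H v φ) (c : ZMod p) : In H v (c • φ) := by
  obtain ⟨n, rfl⟩ : ∃ n : ℕ, (n : ZMod p) = c := ⟨c.val, ZMod.natCast_zmod_val c⟩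
  induction n with
  | zero => rw [Nat.cast_zero, zero_smul]; exact In.zero H v
  | succ n ih => rw [Nat.cast_succ, add_smul, one_smul]; exact ih.add h

theorem In.neg [Fact p.Prime] (h : In H v φ) : In H v (-φ) := by
  rw [← neg_one_smul (ZMod p) φ]
  exact h.smul _

theorem In.of_smul_left {c : ZMod p} (h : In H (c • v) φ) (hc : c • φ v = 0 → φ v = 0) :
    In H v (c • φ) := by
  obtain ⟨hv, g, hg, hgx⟩ := h
  rw [map_smul] at hv
  refine ⟨by simp [hc hv], g, hg, fun x => ?_⟩
  rw [hgx, LinearMap.smul_apply, smul_smul, smul_eq_mul, mul_comm]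

theorem In.smul_left [Fact p.Prime] (h : In H v φ) (c : ZMod p) : In H (c • v) φ := by
  obtain ⟨hv, g, hg, hgx⟩ := h.smul c
  refine ⟨by rw [map_smul, h.1, smul_zero], g, hg, fun x => ?_⟩
  rw [hgx, LinearMap.smul_apply, smul_smul, smul_eq_mul, mul_comm]

theorem In.conj (h : In H v φ) {g : V ≃ₗ[ZMod p] V} (hg : g ∈ H) :
    In H (g v) (φ ∘ₗ g.symm.toLinearMap) := by
  obtain ⟨hv, t, ht, htx⟩ := h
  refine ⟨by simp [hv], g * t * g⁻¹, mul_mem (mul_mem hg ht) (inv_mem hg), fun x => ?_⟩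
  rw [LinearEquiv.mul_apply, LinearEquiv.mul_apply, htx, map_add, map_smul]
  congr 1
  exact g.apply_symm_apply x

/-- Conjugation by a transvection. -/
theorem In.conjTrans (h : In H v φ) (h' : In H w ψ) : In H (v + ψ v • w) (φ - φ w • ψ) := by
  obtain ⟨hw, g, hg, hgx⟩ := h'
  have hc := h.conj hg
  rw [hgx] at hc
  have he : φ ∘ₗ g.symm.toLinearMap = φ - φ w • ψ := by
    ext x
    have hs : g.symm x = x - ψ x • w := by
      rw [LinearEquiv.symm_apply_eq, hgx, map_sub, map_smul, hw, smul_zero, sub_zero,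
        sub_add_cancel]
    simp [hs, mul_comm]
  rwa [he] at hc

/-- The commutator of an asymmetric pair. -/
theorem In.comm [Fact p.Prime] (h : In H v φ) (h' : In H w ψ) (hv : ψ v = 0) :
    In H v (φ w • ψ) := by
  have h1 := h.conjTrans h'
  rw [hv, zero_smul, add_zero] at h1
  have h2 := h.add h1.neg
  rwa [neg_sub, add_sub_cancel] at h2

theorem In.comm_unit [Fact p.Prime] (h : In H v φ) (h' : In H w ψ) (hv : ψ v = 0)
    (hw : φ w ≠ 0) : In H v ψ := by
  have h1 := (h.comm h' hv).smul (φ w)⁻¹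
  rwa [smul_smul, inv_mul_cancel₀ hw, one_smul] at h1

/-- Elements stabilising a three step series form a p-group. -/
theorem isPGroup_of_series [Fact p.Prime] (U W : Submodule (ZMod p) V)
    (K : Subgroup (V ≃ₗ[ZMod p] V)) (h1 : ∀ g ∈ K, ∀ x, g x - x ∈ U)
    (h2 : ∀ g ∈ K, ∀ x ∈ U, g x - x ∈ W) (h3 : ∀ g ∈ K, ∀ x ∈ W, g x = x) : IsPGroup p K := by
  intro g
  refine ⟨2, ?_⟩
  apply Subtype.ext
  rw [SubmonoidClass.coe_pow, OneMemClass.coe_one]
  obtain ⟨g, hg⟩ := g
  have key : ∀ (n : ℕ) (x : V), (g ^ n) x = x + (n : ZMod p) • (g x - x) +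
      ((n.choose 2 : ℕ) : ZMod p) • (g (g x - x) - (g x - x)) := by
    intro n
    induction n with
    | zero => intro x; simp
    | succ n ih =>
      intro x
      have e1 : g (g (g x - x) - (g x - x)) = g (g x - x) - (g x - x) :=
        h3 g hg _ (h2 g hg _ (h1 g hg x))
      set d := g x - x with hd
      set e := g d - d with he
      have hgd : g d = d + e := by rw [he]; abel
      have hgx : g x = x + d := by rw [hd]; abel
      rw [pow_succ', LinearEquiv.mul_apply, ih, map_add, map_add, map_smul, map_smul, e1, hgd, hgx,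
        Nat.cast_succ, Nat.choose_succ_succ', Nat.choose_one_right, Nat.cast_add]
      module
  ext x
  rw [key (p ^ 2), Nat.cast_pow, ZMod.natCast_self, zero_pow two_ne_zero, zero_smul, add_zero,
    (ZMod.natCast_eq_zero_iff _ _).mpr ((Fact.out : p.Prime).dvd_choose_pow two_ne_zero ?_), zero_smul,
    add_zero]
  · rfl
  · have h2le : 2 ≤ p := (Fact.out : p.Prime).two_le
    nlinarith

/-- No non-trivial p-subgroup of H is normalised by H. -/
def NoPCore (p : ℕ) {G : Type*} [Group G] (H : Subgroup G) : Prop :=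
  ∀ N : Subgroup G, N ≤ H → (∀ h ∈ H, ∀ n ∈ N, h * n * h⁻¹ ∈ N) → IsPGroup p N → N = ⊥

theorem noPCore_of_pCore {G : Type*} [Group G] {H : Subgroup G}
    (h : Cfsg.pCore p ↥H = ⊥) : NoPCore p H := by
  intro N hN hn hp
  have hn' : (N.subgroupOf H).Normal := ⟨fun n hn' g => hn g g.2 n hn'⟩
  have hle : N.subgroupOf H ≤ Cfsg.pCore p ↥H :=
    Core.le_pCore (hN := hn') (hp.of_equiv (Subgroup.subgroupOfEquivOfLe hN).symm)
  rw [h, le_bot_iff, Subgroup.subgroupOf_eq_bot] at hle
  exact (inf_eq_left.mpr hN).symm.trans (disjoint_iff.mp hle)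

/-- Every pair has an opposite pair. -/
theorem exists_opp [Fact p.Prime] [Finite V] (hH : NoPCore p H) {q : V × Dual (ZMod p) V}
    (hq : q ∈ Root H) : ∃ r, Link H q r := by
  obtain ⟨v, φ⟩ := q
  obtain ⟨hv0, hφ0, hv, t, ht, htx⟩ := hq
  by_contra hno
  push Not at hno
  have : Finite (V ≃ₗ[ZMod p] V) := Finite.of_injective (fun e : V ≃ₗ[ZMod p] V => (e : V → V)) DFunLike.coe_injective
  set t' : ↥H := ⟨t, ht⟩
  have hfix : ∀ (n : ℕ) x, (t ^ n) x = x + (n : ZMod p) • (φ x • v) := by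
    intro n
    induction n with
    | zero => intro x; simp
    | succ n ih =>
      intro x
      rw [pow_succ', LinearEquiv.mul_apply, ih, htx, map_add, map_smul, map_smul, hv, smul_zero,
        smul_zero, add_zero, Nat.cast_succ, add_smul (n : ZMod p), one_smul]
      abel
  have hX : IsPGroup p (Subgroup.zpowers t') := by
    intro u
    obtain ⟨u, hu⟩ := u
    refine ⟨1, ?_⟩
    apply Subtype.ext
    obtain ⟨i, rfl⟩ := Subgroup.mem_zpowers_iff.mp hu
    rw [SubmonoidClass.coe_pow, pow_one]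
    show (t' ^ i) ^ p = 1
    rw [← zpow_natCast, ← zpow_mul, mul_comm, zpow_mul, zpow_natCast,
      show t' ^ p = 1 from Subtype.ext (by
        ext x
        rw [SubmonoidClass.coe_pow, hfix, ZMod.natCast_self, zero_smul, add_zero]
        rfl), one_zpow]
  obtain ⟨N, hNn, hNp, hle⟩ := Invol.baerSuzuki (Subgroup.zpowers t') hX fun g => by
    set gg : V ≃ₗ[ZMod p] V := g.1
    have hc : In H (gg v) (φ ∘ₗ gg.symm.toLinearMap) := In.conj ⟨hv, t, ht, htx⟩ g.2
    set w := gg v
    set ψ := φ ∘ₗ gg.symm.toLinearMap with hψ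
    have hw0 : w ≠ 0 := fun h => hv0 (gg.map_eq_zero_iff.mp h)
    have hψ0 : ψ ≠ 0 := fun h => hφ0 (by
      ext x
      simpa [hψ] using congrArg (fun f : Dual (ZMod p) V => f (gg x)) h)
    have hne := hno (w, ψ)
    have hasym : φ w = 0 ∨ ψ v = 0 := by
      by_contra h
      push Not at h
      exact hne ⟨⟨hv0, hφ0, hv, t, ht, htx⟩, ⟨hw0, hψ0, hc⟩, h⟩
    set T : V ≃ₗ[ZMod p] V := gg * t * gg⁻¹
    have hTx : ∀ x, T x = x + ψ x • w := fun x => by
      show gg (t (gg.symm x)) = _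
      rw [htx, map_add, map_smul, gg.apply_symm_apply]
      rfl
    obtain ⟨Wl, hWl⟩ : ∃ Wl : Submodule (ZMod p) V,
        φ v • v ∈ Wl ∧ φ w • v ∈ Wl ∧ ψ v • w ∈ Wl ∧ ψ w • w ∈ Wl ∧
          ∀ x ∈ Wl, t x = x ∧ T x = x := by
      rcases hasym with h | h
      · refine ⟨Submodule.span (ZMod p) {w}, by simp [hv], by simp [h],
          Submodule.smul_mem _ _ (Submodule.mem_span_singleton_self w), by simp [hc.1], fun x hx => ?_⟩
        obtain ⟨c, rfl⟩ := Submodule.mem_span_singleton.mp hx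
        simp [htx, hTx, h, hc.1]
      · refine ⟨Submodule.span (ZMod p) {v}, by simp [hv],
          Submodule.smul_mem _ _ (Submodule.mem_span_singleton_self v), by simp [h], by simp [hc.1],
          fun x hx => ?_⟩
        obtain ⟨c, rfl⟩ := Submodule.mem_span_singleton.mp hx
        simp [htx, hTx, h, hv]
    obtain ⟨hWv, hWw, hWv', hWw', hWfix⟩ := hWl
    set U := Submodule.span (ZMod p) ({v, w} : Set V)
    let L : Subgroup (V ≃ₗ[ZMod p] V) :=
      { carrier := {g | (∀ x, g x - x ∈ U) ∧ (∀ x ∈ U, g x - x ∈ Wl) ∧ ∀ x ∈ Wl, g x = x}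
        one_mem' := ⟨fun x => by simp, fun x _ => by simp, fun x _ => rfl⟩
        mul_mem' := by
          rintro a b ⟨a1, a2, a3⟩ ⟨b1, b2, b3⟩
          refine ⟨fun x => ?_, fun x hx => ?_, fun x hx => ?_⟩
          · rw [LinearEquiv.mul_apply, show a (b x) - x = (a (b x) - b x) + (b x - x) by abel]
            exact add_mem (a1 _) (b1 x)
          · rw [LinearEquiv.mul_apply, show a (b x) - x = a (b x - x) + (a x - x) by
              rw [map_sub]; abel, a3 _ (b2 x hx)]
            exact add_mem (b2 x hx) (a2 x hx)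
          · rw [LinearEquiv.mul_apply, b3 x hx, a3 x hx]
        inv_mem' := by
          rintro a ⟨a1, a2, a3⟩
          have e : ∀ x, a⁻¹ x - x = -(a (a⁻¹ x) - a⁻¹ x) := fun x => by
            rw [neg_sub, ← LinearEquiv.mul_apply, mul_inv_cancel]; rfl
          refine ⟨fun x => ?_, fun x hx => ?_, fun x hx => ?_⟩
          · rw [e]; exact neg_mem (a1 _)
          · have hmem : a⁻¹ x ∈ U := by
              have := add_mem (neg_mem (a1 (a⁻¹ x))) hx
              rwa [← e, sub_add_cancel] at this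
            rw [e]; exact neg_mem (a2 _ hmem)
          · conv_lhs => rw [← a3 x hx]
            rw [← LinearEquiv.mul_apply, inv_mul_cancel]; rfl }
    have hmemL : ∀ (s : V ≃ₗ[ZMod p] V) (u : V) (χ : Dual (ZMod p) V), (∀ x, s x = x + χ x • u) →
        u ∈ U → χ v • u ∈ Wl → χ w • u ∈ Wl → (∀ x ∈ Wl, s x = x) → s ∈ L := by
      intro s u χ hs hu hv' hw' hf
      refine ⟨fun x => ?_, fun x hx => ?_, hf⟩
      · rw [hs, add_sub_cancel_left]; exact Submodule.smul_mem _ _ hu
      · obtain ⟨a, b, rfl⟩ := Submodule.mem_span_pair.mp hx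
        rw [hs, add_sub_cancel_left, map_add, map_smul, map_smul, add_smul, smul_assoc, smul_assoc]
        exact add_mem (Submodule.smul_mem _ _ hv') (Submodule.smul_mem _ _ hw')
    have htL : t ∈ L := hmemL t v φ htx (Submodule.subset_span (by simp)) hWv hWw
      fun x hx => (hWfix x hx).1
    have hTL : T ∈ L := hmemL T w ψ hTx (Submodule.subset_span (by simp)) hWv' hWw'
      fun x hx => (hWfix x hx).2
    have hLp : IsPGroup p L :=
      isPGroup_of_series U Wl L (fun _ h => h.1) (fun _ h => h.2.1) fun _ h => h.2.2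
    refine IsPGroup.of_injective (hLp.to_le
      (sup_le (Subgroup.zpowers_le.mpr htL) (Subgroup.zpowers_le.mpr hTL) :
        Subgroup.zpowers t ⊔ Subgroup.zpowers T ≤ L))
      ((H.subtype.comp (Subgroup.subtype _)).codRestrict _ fun x => ?_) fun a b hab => ?_
    · have hmap : (Subgroup.zpowers t' ⊔
          (Subgroup.zpowers t').map (MulAut.conj g).toMonoidHom).map H.subtype ≤
          Subgroup.zpowers t ⊔ Subgroup.zpowers T := by
        rw [Subgroup.map_sup, MonoidHom.map_zpowers, MonoidHom.map_zpowers, MonoidHom.map_zpowers]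
        exact le_rfl
      exact hmap ⟨x, x.2, rfl⟩
    · exact Subtype.ext (Subtype.ext (congrArg (fun z => (z.1 : V ≃ₗ[ZMod p] V)) hab :))
  have hbot := hH (N.map H.subtype) (Subgroup.map_subtype_le N)
    (by rintro h hh _ ⟨n, hn, rfl⟩; exact ⟨⟨h, hh⟩ * n * ⟨h, hh⟩⁻¹, hNn.conj_mem n hn _, rfl⟩)
    (hNp.map _)
  have ht1 : t = 1 := Subgroup.mem_bot.mp (hbot ▸ ⟨t', hle (Subgroup.mem_zpowers t'), rfl⟩)
  apply hφ0
  ext x
  have := htx x
  rw [ht1] at this
  have h0 : φ x • v = 0 := add_eq_left.mp this.symm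
  exact (smul_eq_zero.mp h0).resolve_right hv0

theorem Link.symm {q r : V × Dual (ZMod p) V} (h : Link H q r) : Link H r q :=
  ⟨h.2.1, h.1, h.2.2.2, h.2.2.1⟩

theorem reach_symm {q r : V × Dual (ZMod p) V} (h : Relation.ReflTransGen (Link H) q r) :
    Relation.ReflTransGen (Link H) r q := by
  induction h with
  | refl => exact .refl
  | tail _ h ih => exact Relation.ReflTransGen.head h.symm ih

/-- Non-commuting pairs are joined. -/
theorem reach_of_ne_zero [Fact p.Prime] [Finite V] (hH : NoPCore p H) 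
    {q r : V × Dual (ZMod p) V} (hq : q ∈ Root H) (hr : r ∈ Root H) (h : q.2 r.1 ≠ 0) :
    Relation.ReflTransGen (Link H) q r := by
  by_cases h' : r.2 q.1 = 0
  swap
  · exact .single ⟨hq, hr, h, h'⟩
  obtain ⟨v, φ⟩ := q
  obtain ⟨w, ψ⟩ := r
  dsimp only at h h'
  have hu : (v, ψ) ∈ Root H := ⟨hq.1, hr.2.1, hq.2.2.comm_unit hr.2.2 h' h⟩
  obtain ⟨⟨x, η⟩, -, hm, hψx, hηv⟩ := exists_opp hH hu
  dsimp only at hψx hηv
  -- a scalar avoiding one forbidden value
  have pick : ∀ a b : ZMod p, b ≠ 0 → ∃ c : ZMod p, a + c * b ≠ 0 := fun a b hb => by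
    by_cases ha : a = 0
    · exact ⟨1, by simpa [ha] using hb⟩
    · exact ⟨0, by simpa using ha⟩
  obtain ⟨a, ha⟩ := pick (η w) (-(η v * φ w)) (neg_ne_zero.mpr (mul_ne_zero hηv h))
  have hm1 := hm.2.2.conjTrans (hq.2.2.smul a)
  have hm1' : (x + (a • φ) x • v, η - η v • a • φ) ∈ Root H := by
    refine ⟨fun he => hψx ?_, fun he => hηv ?_, hm1⟩
    · have := congrArg ψ he
      simpa [h'] using this
    · have := congrArg (fun f : Dual (ZMod p) V => f v) he
      simpa [hq.2.2.1] using this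
  obtain ⟨b, hb⟩ := pick (φ x) (ψ x * φ w) (mul_ne_zero hψx h)
  have hm2 := hm.2.2.conjTrans (hr.2.2.smul b)
  have hm2' : (x + (b • ψ) x • w, η - η w • b • ψ) ∈ Root H := by
    refine ⟨fun he => hψx ?_, fun he => hηv ?_, hm2⟩
    · have := congrArg ψ he
      simpa [hr.2.2.1] using this
    · have := congrArg (fun f : Dual (ZMod p) V => f v) he
      simpa [h'] using this
  have l1 : Link H (v, φ) (x + (b • ψ) x • w, η - η w • b • ψ) := by
    refine ⟨hq, hm2', ?_, ?_⟩
    · simpa [mul_comm, mul_assoc, mul_left_comm] using hb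
    · simpa [h'] using hηv
  have l2 : Link H (v, ψ) (x + (b • ψ) x • w, η - η w • b • ψ) := by
    refine ⟨hu, hm2', ?_, ?_⟩
    · simpa [hr.2.2.1] using hψx
    · simpa [h'] using hηv
  have l3 : Link H (v, ψ) (x + (a • φ) x • v, η - η v • a • φ) := by
    refine ⟨hu, hm1', ?_, ?_⟩
    · simpa [h'] using hψx
    · simpa [hq.2.2.1] using hηv
  have l4 : Link H (w, ψ) (x + (a • φ) x • v, η - η v • a • φ) := by
    refine ⟨hr, hm1', ?_, ?_⟩
    · simpa [h'] using hψx
    · simpa [mul_comm, mul_assoc, mul_left_comm, sub_eq_add_neg] using ha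
  exact (((Relation.ReflTransGen.single l1).tail l2.symm).tail l3).tail l4.symm

end Cfsg.Agent.TransGroups
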