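import Cfsg.Agent.TransGroups.Component

/-!
# Splitting of a component

By duality the span of the centres and the common kernel are complementary; the component acts on
the span as a special linear or symplectic group.
-/

set_option autoImplicit false
set_option linter.unusedSectionVars false

open Module Relation

namespace Cfsg.Agent.TransGroups

variable {p : ℕ} {V : Type*} [AddCommGroup V] [Module (ZMod p) V]
  {K : Subgroup (V ≃ₗ[ZMod p] V)}

/-- The contragredient action. -/
def dualHom : (V ≃ₗ[ZMod p] V) →* (Dual (ZMod p) V ≃ₗ[ZMod p] Dual (ZMod p) V) where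
  toFun g := g.symm.dualMap
  map_one' := by ext θ x; rfl
  map_mul' g h := by ext θ x; rfl

theorem dualHom_apply (g : V ≃ₗ[ZMod p] V) (θ : Dual (ZMod p) V) (x : V) :
    dualHom g θ x = θ (g.symm x) := rfl

namespace Comp

variable [Fact p.Prime] [Finite V] (C : Comp K)
include C

theorem dual_root {q : V × Dual (ZMod p) V} (hq : q ∈ Root K) :
    (q.2, -Dual.eval (ZMod p) V q.1) ∈ Root (K.map dualHom) := by
  obtain ⟨h1, h2, hv, g, hg, hgx⟩ := hq
  refine ⟨h2, fun h => h1 ?_, by simp [hv], dualHom g, ⟨g, hg, rfl⟩, fun θ => LinearMap.ext fun x => ?_⟩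
  · rw [← Module.forall_dual_apply_eq_zero_iff (ZMod p) q.1]
    intro θ
    simpa using congrArg (fun f : Dual (ZMod p) (Dual (ZMod p) V) => f θ) h
  · have hs : g.symm x = x - q.2 x • q.1 := by
      rw [LinearEquiv.symm_apply_eq, hgx, map_sub, map_smul, hv, smul_zero, sub_zero,
        sub_add_cancel]
    rw [dualHom_apply, hs]
    simp [mul_comm, sub_eq_add_neg]

theorem dual_root_surj {s : Dual (ZMod p) V × Dual (ZMod p) (Dual (ZMod p) V)}
    (hs : s ∈ Root (K.map dualHom)) :
    ∃ q ∈ Root K, s = (q.2, -Dual.eval (ZMod p) V q.1) := by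
  obtain ⟨θ, ε⟩ := s
  obtain ⟨hθ, hε, hεθ, _, ⟨g, hg, rfl⟩, hgx⟩ := hs
  obtain ⟨v, rfl⟩ := (Module.evalEquiv (ZMod p) V).surjective ε
  replace hεθ : θ v = 0 := hεθ
  have hsymm : ∀ x, g.symm x = x + θ x • v := by
    intro x
    rw [← sub_eq_zero, ← Module.forall_dual_apply_eq_zero_iff (ZMod p)]
    intro η
    have := congrArg (fun f : Dual (ZMod p) V => f x) (hgx η)
    simp only [LinearMap.add_apply, LinearMap.smul_apply, smul_eq_mul, dualHom_apply] at this
    rw [map_sub, map_add, map_smul, smul_eq_mul, this, mul_comm (θ x)]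
    exact sub_self _
  refine ⟨(-v, θ), ⟨fun h => hε ?_, hθ, by simp [hεθ], g, hg, fun x => ?_⟩, ?_⟩
  · show Module.evalEquiv (ZMod p) V v = 0
    rw [neg_eq_zero.mp h, map_zero]
  · have h2 : g.symm (x + θ x • -v) = x := by
      rw [hsymm, map_add, map_smul, map_neg, hεθ, neg_zero, smul_zero, add_zero, smul_neg, add_assoc,
        neg_add_cancel, add_zero]
    exact ((LinearEquiv.symm_apply_eq g).mp h2).symm
  · rw [map_neg, neg_neg]
    rfl

theorem dual : Comp (K.map dualHom) where
  two := C.two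
  core := by
    have hinj : Function.Injective (dualHom : (V ≃ₗ[ZMod p] V) → _) := by
      intro a b h
      refine LinearEquiv.symm_bijective.injective (LinearEquiv.ext fun x => ?_)
      rw [← sub_eq_zero, ← Module.forall_dual_apply_eq_zero_iff (ZMod p)]
      intro θ
      rw [map_sub, ← dualHom_apply, ← dualHom_apply, h, sub_self]
    intro N hN hn hp
    have hbot := C.core (K ⊓ N.comap dualHom) inf_le_left
      (fun h hh n hn' => ⟨K.mul_mem (K.mul_mem hh hn'.1) (K.inv_mem hh), by
        show dualHom _ ∈ N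
        rw [map_mul, map_mul, map_inv]
        exact hn _ ⟨h, hh, rfl⟩ _ hn'.2⟩)
      ((hp.comap_of_injective dualHom hinj).to_le inf_le_right)
    rw [eq_bot_iff]
    intro n hn'
    obtain ⟨a, ha, rfl⟩ := hN hn'
    rw [Subgroup.mem_bot.mp (hbot ▸ ⟨ha, hn'⟩ : a ∈ (⊥ : Subgroup (V ≃ₗ[ZMod p] V))), map_one]
    exact one_mem _
  gen := by
    refine (Subgroup.map_mono C.gen).trans ?_
    rw [MonoidHom.map_closure]
    refine Subgroup.closure_mono ?_
    rintro _ ⟨g, ⟨q, hq, hgx⟩, rfl⟩
    refine ⟨_, C.dual_root hq, fun θ => LinearMap.ext fun x => ?_⟩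
    have hs : g.symm x = x - q.2 x • q.1 := by
      rw [LinearEquiv.symm_apply_eq, hgx, map_sub, map_smul, hq.2.2.1, smul_zero, sub_zero,
        sub_add_cancel]
    rw [dualHom_apply, hs]
    simp [mul_comm, sub_eq_add_neg]
  joined := by
    intro s hs t ht
    obtain ⟨q, hq, rfl⟩ := C.dual_root_surj hs
    obtain ⟨r, hr, rfl⟩ := C.dual_root_surj ht
    refine ReflTransGen.lift (r := Link K) (p := Link (K.map dualHom))
      (fun q : V × Dual (ZMod p) V => (q.2, -Dual.eval (ZMod p) V q.1)) (fun a b hl => ?_) q r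
      (C.joined q hq r hr)
    refine ⟨C.dual_root hl.1, C.dual_root hl.2.1, ?_, ?_⟩
    · simpa using hl.2.2.2
    · simpa using hl.2.2.1

/-- The centres and the common kernel are complementary. -/
theorem isCompl : IsCompl (centSpan K) (comKer K) := by
  refine ⟨disjoint_iff.mpr C.inf_eq_bot, codisjoint_iff.mpr ?_⟩
  rw [← Subspace.dualAnnihilator_inj, Submodule.dualAnnihilator_top, eq_bot_iff]
  intro θ hθ
  rw [Submodule.mem_dualAnnihilator] at hθ
  have h1 : θ ∈ comKer (K.map dualHom) := by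
    rw [mem_comKer]
    intro s hs
    obtain ⟨q, hq, rfl⟩ := C.dual_root_surj hs
    simp [hθ _ (Submodule.mem_sup_left (root_mem_centSpan hq))]
  have h2 : θ ∈ centSpan (K.map dualHom) := by
    rw [← Subspace.dualCoannihilator_dualAnnihilator_eq (W := centSpan (K.map dualHom)),
      Submodule.mem_dualAnnihilator]
    intro x hx
    refine hθ x (Submodule.mem_sup_right (mem_comKer.mpr fun q hq => ?_))
    exact (Submodule.mem_dualCoannihilator _).mp hx _ (root_mem_centSpan (C.dual_root hq))
  have : Finite (Dual (ZMod p) V) := Finite.of_injective _ DFunLike.coe_injective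
  exact C.dual.inf_eq_bot.le ⟨h2, h1⟩

/-- The group on the span of the centres. -/
theorem classification :
    ∃ ρ : ↥K →* (↥(centSpan K) ≃ₗ[ZMod p] ↥(centSpan K)),
      (∀ (h : ↥K) (v : ↥(centSpan K)), ((ρ h v : ↥(centSpan K)) : V) = (h : V ≃ₗ[ZMod p] V) (v : V)) ∧
      ((ρ.range : Set (↥(centSpan K) ≃ₗ[ZMod p] ↥(centSpan K))) =
          {f : ↥(centSpan K) ≃ₗ[ZMod p] ↥(centSpan K) |
            LinearMap.det (f : ↥(centSpan K) →ₗ[ZMod p] ↥(centSpan K)) = 1} ∨
        ∃ B : LinearMap.BilinForm (ZMod p) ↥(centSpan K), B.IsAlt ∧ B.Nondegenerate ∧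
          (ρ.range : Set (↥(centSpan K) ≃ₗ[ZMod p] ↥(centSpan K))) =
            {f : ↥(centSpan K) ≃ₗ[ZMod p] ↥(centSpan K) | ∀ x y, B (f x) (f y) = B x y}) := by
  let r : K →* (centSpan K ≃ₗ[ZMod p] centSpan K) :=
    { toFun := fun g =>
        { toFun := fun u => ⟨g.1 u.1, C.maps_centSpan g.2 u.2⟩
          map_add' := fun a b => Subtype.ext (map_add g.1 a.1 b.1)
          map_smul' := fun c a => Subtype.ext (map_smul g.1 c a.1)
          invFun := fun u => ⟨g.1⁻¹ u.1, C.maps_centSpan (inv_mem g.2) u.2⟩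
          left_inv := fun u => Subtype.ext (g.1.symm_apply_apply u.1)
          right_inv := fun u => Subtype.ext (g.1.apply_symm_apply u.1) }
      map_one' := rfl
      map_mul' := fun _ _ => rfl }
  let m : Model K (centSpan K) :=
    { π := LinearMap.id
      surj := fun u => ⟨u, rfl⟩
      ker := fun u => ⟨fun h => by rw [show u = 0 from h]; exact zero_mem _, fun h => Subtype.ext
        ((Submodule.eq_bot_iff _).mp C.inf_eq_bot u.1 ⟨u.2, h⟩)⟩
      ρ := r
      comm := fun g u u' h => Subtype.ext h }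
  exact ⟨r, fun _ _ => rfl, (C.model_irred m).classify (C.model_gen m)⟩

end Comp

end Cfsg.Agent.TransGroups
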